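import Cfsg.Agent.Lib.BC77.WideArc
import Cfsg.Agent.Lib.Clifford.Rep
import Cfsg.Agent.Lib.SmallGroups.Sylow

/-!
# Eigenvalues of abelian subgroups of simple linear groups

The linear constituents of an abelian subgroup of a non-abelian simple linear group have product
one, and no non-trivial element has all of them within distance less than one from one of them.
-/

set_option autoImplicit false

namespace Cfsg.Agent.Lib.BC77.ThreePrime

open scoped ComplexConjugate
open Cfsg.Agent.Lib.DegreeBounds.Jordan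
open Cfsg.Agent.Lib.Characters.Basic
open Cfsg.Agent.Lib.Characters.Linear (degOneHom degOneHom_apply degree_eq_one_of_comm)

universe u

/-- Multisets of roots of unity with equal power sums coincide. -/
theorem multiset_eq_of_powerSums {N : ℕ} (hN : N ≠ 0) (s t : Multiset ℂ)
    (hs : ∀ z ∈ s, z ^ N = 1) (ht : ∀ z ∈ t, z ^ N = 1)
    (h : ∀ k : ℕ, (s.map fun z => z ^ k).sum = (t.map fun z => z ^ k).sum) : s = t := by
  classical
  refine Multiset.ext.mpr fun μ => ?_
  by_cases hμ : μ ^ N = 1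
  swap
  · rw [Multiset.count_eq_zero.mpr fun hm => hμ (hs μ hm),
      Multiset.count_eq_zero.mpr fun hm => hμ (ht μ hm)]
  have hμ0 : μ ≠ 0 := fun h0 => by rw [h0, zero_pow hN] at hμ; exact zero_ne_one hμ
  have key : ∀ u : Multiset ℂ, (∀ z ∈ u, z ^ N = 1) →
      ∑ k ∈ Finset.range N, (u.map fun z => z ^ k).sum * μ⁻¹ ^ k = (N : ℂ) * (u.count μ : ℂ) := by
    intro u
    induction u using Multiset.induction_on with
    | empty => simp
    | cons z u ih =>
      intro hu
      simp only [Multiset.map_cons, Multiset.sum_cons, add_mul, Finset.sum_add_distrib,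
        Multiset.count_cons, ih fun w hw => hu w (Multiset.mem_cons_of_mem hw), ← mul_pow]
      rcases eq_or_ne μ z with rfl | hne
      · rw [if_pos rfl, mul_inv_cancel₀ hμ0]
        simp only [one_pow, Finset.sum_const, Finset.card_range, nsmul_eq_mul, mul_one,
          Nat.cast_add, Nat.cast_one]
        ring
      · rw [if_neg hne, geom_sum_eq (fun h1 => hne ((mul_inv_eq_one₀ hμ0).mp h1).symm), mul_pow,
          hu z (Multiset.mem_cons_self z u), inv_pow, hμ, inv_one, mul_one, sub_self, zero_div,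
          zero_add, add_zero]
  have h2 := key s hs
  simp only [h, key t ht] at h2
  exact_mod_cast (mul_left_cancel₀ (Nat.cast_ne_zero.mpr hN) h2).symm

variable {G : Type u} [Group G] [Finite G] [IsSimpleGroup G]

/-- The linear constituents of an abelian subgroup in a non-principal irreducible character. -/
theorem exists_lin (hG : ¬ IsMulCommutative G) (χ : Cfsg.IrrCharacter G) (hχ1 : χ ≠ oneChar G)
    {n : ℕ} (hn : (χ : G → ℂ) 1 = (n : ℂ)) (A : Subgroup G)
    (hA : ∀ a ∈ A, ∀ b ∈ A, a * b = b * a) :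
    ∃ L : Fin n → (A →* ℂˣ), (∀ a : A, ∏ i, L i a = 1) ∧
      ∀ a : A, a ≠ 1 → ∀ j, ∃ i, 1 ≤ ‖((L i a : ℂˣ) : ℂ) - L j a‖ := by
  classical
  have := Fintype.ofFinite G
  obtain ⟨d, ρ, hρ, hρχ⟩ := χ.2
  haveI := hρ
  obtain rfl : d = n := by
    rw [← hρχ, Representation.char_one, Module.finrank_fin_fun, Nat.cast_inj] at hn
    exact hn
  obtain ⟨m, hm⟩ := exists_multiset_sum
    (isCharacter_comp A.subtype (⟨d, ρ, rfl⟩ : Cfsg.IsCharacter G ρ.character))
  have hval : ∀ g : A, ρ.character g =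
      (m.map fun l : Cfsg.IrrCharacter A => (l : A → ℂ) g).sum := by
    intro g
    have := congrFun hm g
    rw [Function.comp_apply] at this
    rw [show ρ.character (g : G) = _ from this]
    refine Multiset.induction_on m (by simp) ?_
    intro l s ih
    simp [ih]
  have hlin : ∀ l ∈ m, (l : A → ℂ) 1 = 1 := fun l _ =>
    degree_eq_one_of_comm (fun a b => Subtype.ext (hA a a.2 b b.2)) l
  have hcard : m.toList.length = d := by
    have := hval 1
    rw [Multiset.map_congr rfl hlin, Subgroup.coe_one, Representation.char_one,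
      Module.finrank_fin_fun, Multiset.map_const', Multiset.sum_replicate, nsmul_one,
      Nat.cast_inj] at this
    rw [Multiset.length_toList]
    exact this.symm
  let L : Fin d → (A →* ℂˣ) := fun i => degOneHom (isCharacter_irr (m.toList.get (i.cast hcard.symm)))
    (hlin _ (Multiset.mem_toList.mp (List.get_mem _ _)))
  have hmL : ∀ f : Cfsg.IrrCharacter A → ℂ,
      (m.map f).sum = ∑ i : Fin d, f (m.toList.get (i.cast hcard.symm)) := by
    intro f
    conv_lhs => rw [← m.coe_toList, Multiset.map_coe, Multiset.sum_coe]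
    rw [← Fin.sum_univ_fun_getElem m.toList]
    exact (Fintype.sum_equiv (finCongr hcard.symm) _ _ fun i => rfl).symm
  -- the eigenvalues
  have heig : ∀ a : A, ∃ (ι : Type) (_ : Fintype ι) (b : Module.Basis ι ℂ (Fin d → ℂ)) (ζ : ι → ℂ),
      (∀ i, ρ a (b i) = ζ i • b i ∧ conj (ζ i) * ζ i = 1) ∧
      Finset.univ.val.map ζ = Finset.univ.val.map fun i => ((L i a : ℂˣ) : ℂ) := by
    intro a
    obtain ⟨ι, hι, b, ζ, hb, -, -⟩ := Characters.Diag.exists_eigenbasis_card ρ (a : G)
    refine ⟨ι, hι, b, ζ, fun i => ⟨(hb i).1, conj_mul_self_of_pow Nat.card_pos.ne' (hb i).2⟩, ?_⟩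
    refine multiset_eq_of_powerSums (Nat.card_pos (α := G)).ne' _ _ ?_ ?_ fun k => ?_
    · simp only [Multiset.mem_map, Finset.mem_val, Finset.mem_univ, true_and]
      rintro _ ⟨i, rfl⟩
      exact (hb i).2
    · simp only [Multiset.mem_map, Finset.mem_val, Finset.mem_univ, true_and]
      rintro _ ⟨i, rfl⟩
      rw [← Units.val_pow_eq_pow_val, ← map_pow, show a ^ Nat.card G = 1 from Subtype.ext (by
        rw [Subgroup.coe_pow, pow_card_eq_one', Subgroup.coe_one]), map_one, Units.val_one]
    rw [Multiset.map_map, Multiset.map_map, ← Finset.sum_eq_multiset_sum,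
      ← Finset.sum_eq_multiset_sum]
    simp only [Function.comp_apply]
    have h1 : ρ.character ((a : G) ^ k) = ∑ i, ζ i ^ k :=
      Characters.Diag.trace_eq_sum_eigenvalues b _ _ fun i => by
        induction k with
        | zero => simp
        | succ k ih =>
          rw [pow_succ, map_mul, Module.End.mul_apply, (hb i).1, map_smul, ih, smul_smul, pow_succ']
    rw [← h1, ← Subgroup.coe_pow, hval, hmL]
    refine Finset.sum_congr rfl fun i _ => ?_
    rw [← Units.val_pow_eq_pow_val, ← map_pow]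
    rfl
  refine ⟨L, fun a => ?_, fun a ha j => ?_⟩
  · obtain ⟨ι, hι, b, ζ, hb, hz⟩ := heig a
    have hdet : LinearMap.det (ρ (a : G)) = ∏ i, ζ i := by
      rw [← LinearMap.det_toMatrix b]
      have : LinearMap.toMatrix b b (ρ (a : G)) = Matrix.diagonal ζ := by
        ext i k
        rw [LinearMap.toMatrix_apply, (hb k).1, map_smul, Module.Basis.repr_self]
        rcases eq_or_ne i k with rfl | hik
        · simp
        · simp [Matrix.diagonal_apply_ne _ hik, Finsupp.single_eq_of_ne, hik, hik.symm]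
      rw [this, Matrix.det_diagonal]
    have htriv : Clifford.Rep.detHom ρ (a : G) = 1 := by
      have h := Abelianization.commutator_subset_ker (Clifford.Rep.detHom ρ)
      rw [SmallGroups.Sylow.commutator_eq_top hG] at h
      exact h (Subgroup.mem_top (a : G))
    apply Units.ext
    rw [Units.coe_prod, Units.val_one, Finset.prod_eq_multiset_prod, ← hz,
      ← Finset.prod_eq_multiset_prod, ← hdet, ← Clifford.Rep.detHom_apply, htriv, Units.val_one]
  · by_contra! hall
    obtain ⟨ι, hι, b, ζ, hb, hz⟩ := heig a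
    have hmem : ∀ z : ℂ, z ∈ Finset.univ.val.map ζ ↔ ∃ i, ((L i a : ℂˣ) : ℂ) = z := by
      intro z
      simp [hz]
    obtain ⟨i0, hi0⟩ : ∃ i0, ζ i0 = L j a := by
      have := (hmem (L j a : ℂ)).mpr ⟨j, rfl⟩
      simpa using this
    set α : ℂ := ((L j a : ℂˣ) : ℂ)
    haveI : Nonempty ι := ⟨i0⟩
    set r : ℝ := Finset.univ.sup' Finset.univ_nonempty fun i => ‖ζ i - α‖
    have hr1 : r < 1 := by
      rw [Finset.sup'_lt_iff]
      intro i _
      obtain ⟨l, hl⟩ := (hmem (ζ i)).mp (Multiset.mem_map_of_mem ζ (Finset.mem_univ_val i))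
      exact hl ▸ hall l
    have hle : ∀ i, ‖ζ i - α‖ ≤ r := fun i =>
      Finset.le_sup' (fun i => ‖ζ i - α‖) (Finset.mem_univ i)
    have hr0 : 0 ≤ r := (norm_nonneg _).trans (hle i0)
    have hα : conj α * α = 1 := hi0 ▸ (hb i0).2
    have hclose := close_of_eigen ρ (a : G) α r b ζ (fun i => (hb i).1) (fun i => (hb i).2) hr0 hle
    have hscal := WideArc.scalar_of_close ρ (fun h => ha (Subtype.ext h)) hα hr0 hr1 hclose
      (b.ne_zero i0) (by rw [(hb i0).1, hi0])
    have hinj : ∀ g : G, ρ g = 1 → g = 1 := by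
      intro g hg1
      let Kr : Subgroup G := MonoidHom.ker ρ
      rcases (inferInstance : Kr.Normal).eq_bot_or_eq_top with h | h
      · have hgK : g ∈ Kr := hg1
        rw [h] at hgK
        exact Subgroup.mem_bot.mp hgK
      · exfalso
        have htriv : ∀ u : G, (χ : G → ℂ) u = (χ : G → ℂ) 1 := fun u => by
          have hu : u ∈ Kr := h ▸ Subgroup.mem_top u
          change ρ u = 1 at hu
          rw [← hρχ, Representation.character, Representation.character, hu, map_one ρ]
        apply hχ1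
        have h2 := classInner_irr χ (oneChar G)
        by_contra hne2
        rw [if_neg hne2, Cfsg.classInner] at h2
        simp only [htriv, oneChar_apply, map_one, mul_one, Finset.sum_const,
          Finset.card_univ, nsmul_eq_mul] at h2
        rcases mul_eq_zero.mp h2 with h3 | h3
        · exact inv_ne_zero (Nat.cast_ne_zero.mpr Nat.card_pos.ne') h3
        · rcases mul_eq_zero.mp h3 with h4 | h4
          · exact Nat.cast_ne_zero.mpr Fintype.card_ne_zero h4
          · exact apply_one_ne_zero χ h4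
    have hcen : (a : G) ∈ Subgroup.center G := by
      rw [Subgroup.mem_center_iff]
      intro g
      have h : ρ (g * a) = ρ (a * g) := LinearMap.ext fun w => by
        rw [map_mul, map_mul, Module.End.mul_apply, Module.End.mul_apply, hscal, hscal, map_smul]
      have h2 : ρ (((a : G) * g)⁻¹ * (g * a)) = 1 := by
        rw [map_mul, h, ← map_mul, inv_mul_cancel, map_one]
      exact (inv_mul_eq_one.mp (hinj _ h2)).symm
    rw [SmallGroups.Sylow.center_eq_bot hG] at hcen
    exact ha (Subtype.ext (Subgroup.mem_bot.mp hcen))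

section lin

variable {A : Type u} [Group A] [Finite A] {n : ℕ} (L : Fin n → (A →* ℂˣ))

/-- Unit complex numbers in one sixth of the circle. -/
noncomputable def cell (z : ℂ) : Fin 6 :=
  if h : ⌈3 * (Complex.arg z + Real.pi) / Real.pi⌉₊ - 1 < 6 then
    ⟨⌈3 * (Complex.arg z + Real.pi) / Real.pi⌉₊ - 1, h⟩ else 0

theorem norm_sub_lt_of_cell {z w : ℂ} (hz : ‖z‖ = 1) (hw : ‖w‖ = 1) (h : cell z = cell w) :
    ‖z - w‖ < 1 := by
  have hpi := Real.pi_pos
  set a := 3 * (Complex.arg z + Real.pi) / Real.pi with ha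
  set b := 3 * (Complex.arg w + Real.pi) / Real.pi with hb
  have hrange : ∀ y : ℂ, 0 < 3 * (Complex.arg y + Real.pi) / Real.pi ∧
      3 * (Complex.arg y + Real.pi) / Real.pi ≤ (6 : ℕ) := by
    intro y
    have h1 := Complex.neg_pi_lt_arg y
    have h2 := Complex.arg_le_pi y
    refine ⟨div_pos (by linarith) hpi, ?_⟩
    rw [div_le_iff₀ hpi]
    push_cast
    linarith
  have hca : ⌈a⌉₊ ≤ 6 := Nat.ceil_le.mpr (hrange z).2
  have hcb : ⌈b⌉₊ ≤ 6 := Nat.ceil_le.mpr (hrange w).2
  have ha1 : 1 ≤ ⌈a⌉₊ := Nat.ceil_pos.mpr (hrange z).1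
  have hb1 : 1 ≤ ⌈b⌉₊ := Nat.ceil_pos.mpr (hrange w).1
  have heq : ⌈a⌉₊ = ⌈b⌉₊ := by
    simp only [cell, ← ha, ← hb] at h
    rw [dif_pos (by omega), dif_pos (by omega)] at h
    have h' := congrArg Fin.val h
    simp only at h'
    omega
  have h1 := Nat.ceil_lt_add_one (hrange z).1.le
  have h2 := Nat.ceil_lt_add_one (hrange w).1.le
  have h3 := Nat.le_ceil a
  have h4 := Nat.le_ceil b
  rw [← ha] at h1
  rw [← hb] at h2
  have heq' : (⌈a⌉₊ : ℝ) = (⌈b⌉₊ : ℝ) := by exact_mod_cast heq
  set θ := Complex.arg z - Complex.arg w with hθdef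
  have hθ : |θ| < Real.pi / 3 := by
    have hd : a - b = 3 * θ / Real.pi := by rw [ha, hb, hθdef]; ring
    have hab1 : a - b < 1 := by linarith
    have hab2 : -1 < a - b := by linarith
    rw [hd, div_lt_iff₀ hpi] at hab1
    rw [hd, lt_div_iff₀ hpi] at hab2
    rw [abs_lt]
    constructor <;> linarith
  have hcos : 1 / 2 < Real.cos θ := by
    rw [← Real.cos_pi_div_three, ← Real.cos_abs θ]
    exact Real.cos_lt_cos_of_nonneg_of_le_pi (abs_nonneg _) (by linarith) hθ
  have hz1 := Complex.cos_arg (norm_ne_zero_iff.mp (by rw [hz]; norm_num : ‖z‖ ≠ 0))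
  have hw1 := Complex.cos_arg (norm_ne_zero_iff.mp (by rw [hw]; norm_num : ‖w‖ ≠ 0))
  have hz2 := Complex.sin_arg z
  have hw2 := Complex.sin_arg w
  rw [hz, div_one] at hz1 hz2
  rw [hw, div_one] at hw1 hw2
  rw [hθdef, Real.cos_sub, hz1, hw1, hz2, hw2] at hcos
  have hsz : z.re * z.re + z.im * z.im = 1 := by
    rw [← Complex.normSq_apply, Complex.normSq_eq_norm_sq, hz, one_pow]
  have hsw : w.re * w.re + w.im * w.im = 1 := by
    rw [← Complex.normSq_apply, Complex.normSq_eq_norm_sq, hw, one_pow]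
  have h5 : ‖z - w‖ ^ 2 < 1 := by
    rw [← Complex.normSq_eq_norm_sq, Complex.normSq_apply]
    simp only [Complex.sub_re, Complex.sub_im]
    nlinarith
  nlinarith [norm_nonneg (z - w)]

theorem norm_lin (i : Fin n) (a : A) : ‖((L i a : ℂˣ) : ℂ)‖ = 1 := by
  refine Complex.norm_eq_one_of_pow_eq_one (n := Nat.card A) ?_ Nat.card_pos.ne'
  rw [← Units.val_pow_eq_pow_val, ← map_pow, pow_card_eq_one', map_one, Units.val_one]

/-- The box principle. -/
theorem card_le (hn : 0 < n)
    (hL : ∀ a : A, a ≠ 1 → ∀ j, ∃ i, 1 ≤ ‖((L i a : ℂˣ) : ℂ) - L j a‖) :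
    Nat.card A ≤ 6 ^ (n - 1) := by
  classical
  obtain ⟨m, rfl⟩ := Nat.exists_eq_add_of_le' hn
  let f : A → (Fin m → Fin 6) := fun a i => cell (((L i.succ a)⁻¹ * L 0 a : ℂˣ) : ℂ)
  have hf : Function.Injective f := by
    intro a b hab
    by_contra hne
    obtain ⟨i, hi⟩ := hL (a * b⁻¹) (fun h => hne (mul_inv_eq_one.mp h)) 0
    revert hi
    refine Fin.cases ?_ (fun i hi => ?_) i
    · simp
    have h1 : ∀ c : A, ‖(((L i.succ c)⁻¹ * L 0 c : ℂˣ) : ℂ)‖ = 1 := fun c => by
      rw [Units.val_mul, norm_mul, Units.val_inv_eq_inv_val, norm_inv, norm_lin, norm_lin, inv_one,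
        one_mul]
    have h2 := norm_sub_lt_of_cell (h1 a) (h1 b) (congrFun hab i)
    refine absurd hi (not_le.mpr ?_)
    refine lt_of_eq_of_lt ?_ h2
    have e : ((L i.succ (a * b⁻¹) : ℂˣ) : ℂ) - L 0 (a * b⁻¹) =
        -((L i.succ a : ℂˣ) : ℂ) * ((L 0 b : ℂˣ) : ℂ)⁻¹ *
          ((((L i.succ a)⁻¹ * L 0 a : ℂˣ) : ℂ) - (((L i.succ b)⁻¹ * L 0 b : ℂˣ) : ℂ)) := by
      simp only [map_mul, map_inv, Units.val_mul, Units.val_inv_eq_inv_val]
      field_simp
      ring
    rw [e, norm_mul, norm_mul, norm_neg, norm_inv, norm_lin, norm_lin, inv_one, one_mul, one_mul]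
  calc Nat.card A ≤ Nat.card (Fin m → Fin 6) := Nat.card_le_card_of_injective f hf
    _ = 6 ^ (m + 1 - 1) := by simp

end lin

end Cfsg.Agent.Lib.BC77.ThreePrime
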