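import Cfsg.Agent.Lib.BC77.ThreePrime.Three
import Cfsg.Agent.Lib.KleinBlock.Formula
import Cfsg.Agent.S0084
import Cfsg.Agent.S0202
import Cfsg.Agent.S0203
import Cfsg.Agent.S0948
import Cfsg.Agent.S0992
import Cfsg.Agent.S4480

/-!
# Simple groups of order `4 p^a q^b` with `a ≤ 2`

Such a group has order `4 · 3^i · r^j`. A character of degree four bounds `r`; the degrees in
the principal `2`-block then force either a contradiction or a character of degree three.
-/

set_option autoImplicit false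

namespace Cfsg.Agent.Lib.BC77.ThreePrime

open Cfsg.Agent.Lib.Characters.Basic
open Cfsg.Agent.Lib.SmallGroups

universe u

/-- `x` is `3 ^ α * r ^ β` with `α < 10` and `β < 3`. -/
def isForm (r x : ℕ) : Bool :=
  (List.range 10).any fun α => (List.range 3).any fun β => decide (x = 3 ^ α * r ^ β)

/-- The degree equation has only solutions with a three. -/
def blockOK (r : ℕ) : Bool :=
  (List.range 10).all fun α => (List.range 3).all fun β => (List.range 10).all fun γ =>
    (List.range 3).all fun δ =>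
      let x := 3 ^ α * r ^ β
      let y := 3 ^ γ * r ^ δ
      decide (x % 4 ≠ 3) || decide (y % 4 ≠ 3) || decide (x = 3) || decide (y = 3) ||
        decide ((x + y - 1) % 4 ≠ 1) || !isForm r (x + y - 1)

theorem blockOK_all : ∀ r ∈ ([5, 7, 11, 13] : List ℕ), blockOK r = true := by decide +kernel

theorem isForm_iff {r x : ℕ} :
    isForm r x = true ↔ ∃ α, α < 10 ∧ ∃ β, β < 3 ∧ x = 3 ^ α * r ^ β := by
  simp [isForm]

/-- Divisors of `3 ^ i * r ^ j`. -/
theorem exists_form {r i j x : ℕ} (hr : r.Prime) (hj : j ≤ 2) (h : x ∣ 3 ^ i * r ^ j) :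
    ∃ α β, β ≤ 2 ∧ x = 3 ^ α * r ^ β := by
  obtain ⟨y, z, hy, hz, rfl⟩ := exists_dvd_and_dvd_of_dvd_mul h
  obtain ⟨α, -, rfl⟩ := (Nat.dvd_prime_pow Nat.prime_three).mp hy
  obtain ⟨β, hβ, rfl⟩ := (Nat.dvd_prime_pow hr).mp hz
  exact ⟨α, β, hβ.trans hj, rfl⟩

theorem three_dvd_or {r i j x : ℕ} (hr : r.Prime) (h : x ∣ 3 ^ i * r ^ j) (hx : x ≠ 1) :
    3 ∣ x ∨ r ∣ x := by
  obtain ⟨q, hq, hqx⟩ := Nat.exists_prime_and_dvd hx
  rcases hq.dvd_mul.mp (hqx.trans h) with h' | h'
  · exact Or.inl ((Nat.prime_dvd_prime_iff_eq hq Nat.prime_three).mp (hq.dvd_of_dvd_pow h') ▸ hqx)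
  · exact Or.inr ((Nat.prime_dvd_prime_iff_eq hq hr).mp (hq.dvd_of_dvd_pow h') ▸ hqx)

/-- Three integers above one, with `y + z = x + 1`, made of `3` and a prime `r ∈ {5,7,11,13}`,
all contain small powers of three. -/
theorem small_exponent {r x y z a b c a' b' c' : ℕ} (hr : r ∈ ([5, 7, 11, 13] : List ℕ))
    (hx : x = 3 ^ a * r ^ a') (hy : y = 3 ^ b * r ^ b') (hz : z = 3 ^ c * r ^ c')
    (ha' : a' ≤ 2) (hb' : b' ≤ 2) (hc' : c' ≤ 2) (hx1 : x ≠ 1) (hy1 : y ≠ 1) (hz1 : z ≠ 1)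
    (h : y + z = x + 1) : a < 10 ∧ b < 10 ∧ c < 10 := by
  have hr2 : 2 ≤ r ∧ r ≤ 13 := by
    simp only [List.mem_cons, List.not_mem_nil, or_false] at hr
    omega
  have hpow : ∀ e, e ≤ 2 → r ^ e ≤ 169 ∧ 0 < r ^ e := fun e he => by
    refine ⟨?_, pow_pos (by omega) e⟩
    calc r ^ e ≤ 13 ^ e := Nat.pow_le_pow_left hr2.2 e
      _ ≤ 13 ^ 2 := Nat.pow_le_pow_right (by norm_num) he
      _ = 169 := by norm_num
  have hfin : ∀ e : ℕ, 3 ^ e ≤ 20000 → e < 10 := fun e he => by
    by_contra! h10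
    have : 3 ^ 10 ≤ 3 ^ e := Nat.pow_le_pow_right (by norm_num) h10
    norm_num at this
    omega
  have hle : ∀ e w, w ≤ 2 → 3 ^ e ≤ 3 ^ e * r ^ w := fun e w hw =>
    Nat.le_mul_of_pos_right _ (hpow w hw).2
  have hle' : ∀ e w, w ≤ 2 → e ≤ 4 → 3 ^ e * r ^ w ≤ 81 * 169 := fun e w hw he =>
    Nat.mul_le_mul (by simpa using Nat.pow_le_pow_right (by norm_num : 1 ≤ 3) he) (hpow w hw).1
  have hfour : ∀ e m : ℕ, 3 ^ e ∣ m → 0 < m → m ≤ 170 → e ≤ 4 := fun e m hd hm0 hm => by
    by_contra! h5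
    have h243 : 3 ^ 5 ≤ m := (Nat.pow_le_pow_right (by norm_num) h5).trans (Nat.le_of_dvd hm0 hd)
    norm_num at h243
    omega
  -- some of them is prime to three
  have hzero : a = 0 ∨ b = 0 ∨ c = 0 := by
    by_contra! hne
    have d1 : 3 ∣ x := hx ▸ (dvd_pow_self 3 hne.1).mul_right _
    have d2 : 3 ∣ y := hy ▸ (dvd_pow_self 3 hne.2.1).mul_right _
    have d3 : 3 ∣ z := hz ▸ (dvd_pow_self 3 hne.2.2).mul_right _
    omega
  have ha1 := hle a a' ha'
  have hb1 := hle b b' hb'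
  have hc1 := hle c c' hc'
  rcases hzero with rfl | rfl | rfl
  · rw [pow_zero, one_mul] at hx
    have hx170 : x ≤ 169 := hx ▸ (hpow a' ha').1
    exact ⟨by norm_num, hfin b (by omega), hfin c (by omega)⟩
  · rw [pow_zero, one_mul] at hy
    have hy170 : y ≤ 169 := hy ▸ (hpow b' hb').1
    have h4 : a ≤ 4 ∨ c ≤ 4 := by
      rcases le_total a c with hac | hac
      · refine Or.inl (hfour a (y - 1) ?_ (by omega) (by omega))
        rw [show y - 1 = x - z by omega]
        exact Nat.dvd_sub (hx ▸ dvd_mul_right _ _) (hz ▸ (pow_dvd_pow 3 hac).mul_right _)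
      · refine Or.inr (hfour c (y - 1) ?_ (by omega) (by omega))
        rw [show y - 1 = x - z by omega]
        exact Nat.dvd_sub (hx ▸ (pow_dvd_pow 3 hac).mul_right _) (hz ▸ dvd_mul_right _ _)
    rcases h4 with h4 | h4
    · have := hle' a a' ha' h4
      exact ⟨by omega, by norm_num, hfin c (by omega)⟩
    · have := hle' c c' hc' h4
      exact ⟨hfin a (by omega), by norm_num, by omega⟩
  · rw [pow_zero, one_mul] at hz
    have hz170 : z ≤ 169 := hz ▸ (hpow c' hc').1
    have h4 : a ≤ 4 ∨ b ≤ 4 := by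
      rcases le_total a b with hab | hab
      · refine Or.inl (hfour a (z - 1) ?_ (by omega) (by omega))
        rw [show z - 1 = x - y by omega]
        exact Nat.dvd_sub (hx ▸ dvd_mul_right _ _) (hy ▸ (pow_dvd_pow 3 hab).mul_right _)
      · refine Or.inr (hfour b (z - 1) ?_ (by omega) (by omega))
        rw [show z - 1 = x - y by omega]
        exact Nat.dvd_sub (hx ▸ (pow_dvd_pow 3 hab).mul_right _) (hy ▸ dvd_mul_right _ _)
    rcases h4 with h4 | h4
    · have := hle' a a' ha' h4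
      exact ⟨by omega, hfin b (by omega), by norm_num⟩
    · have := hle' b b' hb' h4
      exact ⟨hfin a (by omega), by omega, by norm_num⟩

/-- The degree equation `y + z = x + 1` forces a three. -/
theorem degree_three {r i j x y z : ℕ} (hr : r ∈ ([5, 7, 11, 13] : List ℕ)) (hj : j ≤ 2)
    (hx : x ∣ 3 ^ i * r ^ j) (hy : y ∣ 3 ^ i * r ^ j) (hz : z ∣ 3 ^ i * r ^ j) (hx1 : x ≠ 1)
    (hy1 : y ≠ 1) (hz1 : z ≠ 1) (hx4 : x % 4 = 1) (hy4 : y % 4 = 3) (hz4 : z % 4 = 3)
    (h : y + z = x + 1) : y = 3 ∨ z = 3 := by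
  have hrp : r.Prime := by
    simp only [List.mem_cons, List.not_mem_nil, or_false] at hr
    rcases hr with rfl | rfl | rfl | rfl <;> norm_num
  obtain ⟨a, a', ha', hxa⟩ := exists_form hrp hj hx
  obtain ⟨b, b', hb', hyb⟩ := exists_form hrp hj hy
  obtain ⟨c, c', hc', hzc⟩ := exists_form hrp hj hz
  obtain ⟨ha, hb, hc⟩ := small_exponent hr hxa hyb hzc ha' hb' hc' hx1 hy1 hz1 h
  have ht := blockOK_all r hr
  simp only [blockOK, List.all_eq_true, List.mem_range] at ht
  have ht := ht b hb b' (by omega) c hc c' (by omega)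
  simp only [← hyb, ← hzc, show y + z - 1 = x by omega, Bool.or_eq_true, decide_eq_true_eq,
    Bool.not_eq_true'] at ht
  have hform : isForm r x = true := isForm_iff.mpr ⟨a, ha, a', by omega, hxa⟩
  rw [hform] at ht
  simp only [Bool.true_eq_false, or_false] at ht
  omega

variable {G : Type u} [Group G] [Finite G] [IsSimpleGroup G]

/-- A character of degree four. -/
theorem exists_degree_four (hG : ¬ IsMulCommutative G) {i r j : ℕ} (hr : r.Prime) (hr5 : 5 ≤ r)
    (hij : i ≤ 2 ∨ j ≤ 2) (h : Nat.card G = 4 * 3 ^ i * r ^ j) :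
    ∃ χ : Cfsg.IrrCharacter G, χ ≠ oneChar G ∧ Cfsg.charDegree (χ : G → ℂ) = 4 := by
  obtain ⟨χ, hχ, k, hk⟩ : ∃ χ : Cfsg.IrrCharacter G, (χ : G → ℂ) ≠ (fun _ => 1) ∧
      ∃ k : ℕ, Cfsg.charDegree (χ : G → ℂ) = 2 ^ k := by
    rcases hij with hi | hj
    · exact (S4500.result 3 2 r i 2 j Nat.prime_three Nat.prime_two hr (by norm_num) (by omega)
        (by omega) hi (by rw [h]; ring)).1
    · exact (S4500.result r 2 3 j 2 i hr Nat.prime_two Nat.prime_three (by omega) (by omega)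
        (by norm_num) hj (by rw [h]; ring)).1
  have hχ1 := ne_oneChar hχ
  refine ⟨χ, hχ1, ?_⟩
  have hk2 : k ≤ 2 := by
    by_contra! hk3
    have h8 : 2 * 4 ∣ 4 * (3 ^ i * r ^ j) := by
      refine dvd_trans (by norm_num : 2 * 4 ∣ 2 ^ 3) ((pow_dvd_pow 2 hk3).trans ?_)
      rw [← hk, ← mul_assoc, ← h]
      exact charDegree_dvd χ
    rw [mul_comm 2 4] at h8
    rcases Nat.prime_two.dvd_mul.mp (Nat.dvd_of_mul_dvd_mul_left (by norm_num) h8) with h' | h'
    · have := (Nat.prime_dvd_prime_iff_eq Nat.prime_two Nat.prime_three).mp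
        (Nat.prime_two.dvd_of_dvd_pow h')
      omega
    · have := (Nat.prime_dvd_prime_iff_eq Nat.prime_two hr).mp (Nat.prime_two.dvd_of_dvd_pow h')
      omega
  interval_cases k
  · exact absurd (by simpa using hk) (degree_ne_one hG χ hχ1)
  · exfalso
    obtain ⟨z, hz⟩ := exists_prime_orderOf_dvd_card' (G := G) 2
      (hp := ⟨Nat.prime_two⟩) ⟨2 * 3 ^ i * r ^ j, by rw [h]; ring⟩
    obtain ⟨L, hL1, hL⟩ := exists_lin hG χ hχ1 (apply_one' χ (n := 2) (by simpa using hk))
      (Subgroup.zpowers z) fun a ha b hb => by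
        obtain ⟨i, rfl⟩ := ha
        obtain ⟨j, rfl⟩ := hb
        exact ((Commute.refl z).zpow_zpow i j).eq
    set w : Subgroup.zpowers z := ⟨z, Subgroup.mem_zpowers z⟩
    have hw1 : w ≠ 1 := fun e => by
      have : z = 1 := congrArg Subtype.val e
      rw [this, orderOf_one] at hz
      omega
    have hw2 : w * w = 1 := Subtype.ext (by
      show z * z = 1
      rw [← pow_two, ← hz, pow_orderOf_eq_one])
    have h01 : L 0 w = L 1 w := by
      have h1 := hL1 w
      rw [Fin.prod_univ_two] at h1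
      have h2 : L 1 w * L 1 w = 1 := by rw [← map_mul, hw2, map_one]
      exact mul_right_cancel (h1.trans h2.symm)
    obtain ⟨l, hl⟩ := hL w hw1 0
    fin_cases l <;> simp [h01] at hl <;> norm_num at hl
  · simpa using hk

/-- Involutions are conjugate. -/
theorem isConj_involutions (hG : ¬ IsMulCommutative G) (P : Sylow 2 G)
    (hP : IsKleinFour (P : Subgroup G)) (hcard : Nat.card G ≠ 4) :
    ∀ s t : G, orderOf s = 2 → orderOf t = 2 → IsConj s t := by
  have h3 : ¬ Nat.card {C : ConjClasses G // ∃ t : G, orderOf t = 2 ∧ ConjClasses.mk t = C} = 3 := by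
    rw [S0203.result P hP]
    rintro ⟨N, hN, hc⟩
    rcases hN.eq_bot_or_eq_top with hb | hb <;> rw [hb] at hc
    · rw [Subgroup.isComplement'_bot_left] at hc
      apply hcard
      rw [← Subgroup.card_top, ← hc]
      exact hP.card_four
    · rw [Subgroup.isComplement'_top_left] at hc
      have := hP.card_four
      rw [hc, Subgroup.card_bot] at this
      norm_num at this
  have h1 := (S0202.result P hP).resolve_right h3
  haveI := (Nat.card_eq_one_iff_unique.mp h1).1
  intro s t hs ht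
  have := Subsingleton.elim
    (⟨ConjClasses.mk s, s, hs, rfl⟩ :
      {C : ConjClasses G // ∃ t : G, orderOf t = 2 ∧ ConjClasses.mk t = C})
    ⟨ConjClasses.mk t, t, ht, rfl⟩
  exact ConjClasses.mk_eq_mk_iff_isConj.mp (congrArg Subtype.val this)

/-- A large power of three is impossible. -/
theorem three_exponent_le (hG : ¬ IsMulCommutative G) {i r j : ℕ} (hr : r.Prime) (hr5 : 5 ≤ r)
    (hi : 3 ≤ i) (hj : 1 ≤ j) (hj2 : j ≤ 2) (h : Nat.card G = 4 * 3 ^ i * r ^ j) : False := by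
  classical
  haveI : Fact (Nat.Prime 2) := ⟨Nat.prime_two⟩
  haveI : Fact (Nat.Prime 3) := ⟨Nat.prime_three⟩
  haveI := Fact.mk hr
  set g₀ := 3 ^ i * r ^ j with hg₀def
  have hg₀ : Odd g₀ := by
    refine Odd.mul (Odd.pow (by decide)) (Odd.pow (hr.odd_of_ne_two (by omega)))
  have hg : Nat.card G = 4 * g₀ := by rw [h, hg₀def]; ring
  have hcard4 : Nat.card G ≠ 4 := by
    rw [hg]
    intro e
    have h27 : 3 ^ 3 ≤ 3 ^ i := Nat.pow_le_pow_right (by norm_num) hi
    have : 0 < r ^ j := pow_pos hr.pos _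
    have : 3 ^ i ≤ g₀ := Nat.le_mul_of_pos_right _ this
    omega
  have hodd : ¬ 2 ∣ g₀ := hg₀.not_two_dvd_nat
  -- the second prime
  obtain ⟨χ, hχ1, hχ4⟩ := exists_degree_four hG hr hr5 (Or.inr hj2) h
  have hm : Nat.card G = r ^ j * (4 * 3 ^ i) := by rw [h]; ring
  have hrm : ¬ r ∣ 4 * 3 ^ i := by
    intro hd
    rcases hr.dvd_mul.mp hd with h' | h'
    · have := Nat.le_of_dvd (by norm_num) h'
      omega
    · have := (Nat.prime_dvd_prime_iff_eq hr Nat.prime_three).mp (hr.dvd_of_dvd_pow h')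
      omega
  have hrmem : r ∈ ([5, 7, 11, 13] : List ℕ) := by
    let R : Sylow r G := default
    have h216 := (card_le_of_lt hG χ hχ1 (apply_one' χ hχ4) (show 4 < r by omega) R R.2).2
    rw [Sylow.card_sylow_eq R hm hrm] at h216
    interval_cases j
    · have := prime_le hG χ hχ1 hχ4 hr hm hrm
      interval_cases r <;> simp_all (config := { decide := true })
    · have : r < 15 := by
        by_contra! h15
        have : 15 ^ 2 ≤ r ^ 2 := Nat.pow_le_pow_left h15 2
        omega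
      interval_cases r <;> simp_all (config := { decide := true })
  -- the principal block
  have h2 : Even (Nat.card G) := by rw [hg]; exact Even.mul_right (by decide) _
  have h8 : ¬ 8 ∣ Nat.card G := by
    rw [hg, show (8 : ℕ) = 4 * 2 from rfl]
    exact fun hd => hodd (Nat.dvd_of_mul_dvd_mul_left (by norm_num) hd)
  let P : Sylow 2 G := default
  have hP := (S0992.result hG h2 h8 P).1
  obtain ⟨M, hM⟩ := Blocks.exists_isPModular 2 Nat.prime_two
  obtain ⟨ζ₂, ζ₃, ζ₄, ε, hε, hn2, hn3, h23, h24, h34, hB, hval, c2, c3, c4, hrel⟩ :=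
    S0948.result M hM P hP (isConj_involutions hG P hP hcard4)
  have hr1 := hrel 1 (by rw [orderOf_one]; decide)
  simp only [Blocks.char_one_eq_degree] at hr1
  have hn4 : (ζ₄ : G → ℂ) ≠ fun _ => 1 := by
    intro e
    obtain ⟨z, hz⟩ := exists_prime_orderOf_dvd_card' (G := G) 2 (even_iff_two_dvd.mp h2)
    have := (hval z hz).2.2
    rw [e] at this
    norm_num at this
  have hone : ∀ ζ : Cfsg.IrrCharacter G, (ζ : G → ℂ) ≠ (fun _ => 1) →
      Cfsg.charDegree (ζ : G → ℂ) ≠ 1 := fun ζ hζ => degree_ne_one hG ζ (ne_oneChar hζ)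
  have hdvd : ∀ ζ : Cfsg.IrrCharacter G, Odd (Cfsg.charDegree (ζ : G → ℂ)) →
      Cfsg.charDegree (ζ : G → ℂ) ∣ g₀ := fun ζ hζ => by
    have h4 := charDegree_dvd ζ
    rw [hg] at h4
    refine Nat.Coprime.dvd_of_dvd_mul_left ?_ h4
    rw [show (4 : ℕ) = 2 ^ 2 from rfl]
    exact (Nat.coprime_two_right.mpr hζ).pow_right 2
  have d2 : (Cfsg.charDegree (ζ₂ : G → ℂ)) % 4 = 1 := by omega
  have d4 : (Cfsg.charDegree (ζ₄ : G → ℂ)) % 4 = 3 := by omega
  rcases hε with rfl | rfl
  · -- all three degrees are pairwise coprime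
    set x := Cfsg.charDegree (ζ₂ : G → ℂ) with hx
    set x' := Cfsg.charDegree (ζ₃ : G → ℂ) with hx'
    set q := Cfsg.charDegree (ζ₄ : G → ℂ) with hq
    have hrelN : 1 + x + x' = q := by
      have : ((1 + x + x' : ℕ) : ℂ) = (q : ℂ) := by
        push_cast
        linear_combination hr1
      exact_mod_cast this
    obtain ⟨J0, hJ0⟩ := exists_prime_orderOf_dvd_card' (G := (P : Subgroup G)) 2
      (by rw [hP.card_four]; norm_num)
    set J : G := (J0 : G)
    have hJ2 : orderOf J = 2 := by rw [Subgroup.orderOf_coe, hJ0]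
    have hnc : ¬ ∃ N : Subgroup G, N.Normal ∧ Nat.card N = g₀ := by
      rintro ⟨N, hN, hNc⟩
      have hg1 : 1 < g₀ := by
        have h27 : 3 ^ 3 ≤ 3 ^ i := Nat.pow_le_pow_right (by norm_num) hi
        have : 3 ^ i ≤ g₀ := Nat.le_mul_of_pos_right _ (pow_pos hr.pos _)
        omega
      rcases hN.eq_bot_or_eq_top with hb | hb <;> rw [hb] at hNc
      · rw [Subgroup.card_bot] at hNc
        omega
      · rw [Subgroup.card_top, hg] at hNc
        omega
    have hBset := hB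
    obtain ⟨m, hm4, -⟩ := S4480.result M hM g₀ hg₀ hg hnc P J J0.2 hJ2 ζ₂ ζ₃ ζ₄ 1 1 (-1) hB
      ⟨hn2, hn3, hn4, h23, h24, h34⟩ ⟨Or.inl rfl, Or.inl rfl, Or.inr rfl⟩
      ⟨by rw [(hval J hJ2).1]; norm_num, by rw [(hval J hJ2).2.1],
        by rw [(hval J hJ2).2.2]; norm_num⟩ (by norm_num) rfl
    obtain ⟨n, hdata⟩ := KleinBlock.exists_data M hM g₀ hg₀ hg hnc P J J0.2 hJ2 ζ₂ ζ₃ ζ₄ 1 1 (-1)
      hB ⟨hn2, hn3, hn4, h23, h24, h34⟩ ⟨Or.inl rfl, Or.inl rfl, Or.inr rfl⟩
      ⟨by rw [(hval J hJ2).1]; norm_num, by rw [(hval J hJ2).2.1],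
        by rw [(hval J hJ2).2.2]; norm_num⟩
    have heq : x = x' := hdata.degree_eq rfl rfl rfl
    obtain ⟨s, hs⟩ : ∃ s, q + 1 = 4 * s := ⟨(q + 1) / 4, by omega⟩
    have hPC : 4 ∣ Nat.card (Subgroup.centralizer ((P : Subgroup G) : Set G)) := by
      rw [← hP.card_four]
      refine Subgroup.card_dvd_of_le fun a ha b hb => ?_
      haveI : IsMulCommutative (P : Subgroup G) := IsKleinFour.isMulCommutative
      exact setLike_mul_comm hb ha
    have hsdvd : s ∣ g₀ := by
      rw [← hq, hs] at hm4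
      obtain ⟨w, hw⟩ := hPC
      obtain ⟨v, hv⟩ := Subgroup.card_subgroup_dvd_card (Subgroup.centralizer ({J} : Set G))
      refine ⟨m * w * v, ?_⟩
      generalize Nat.card (Subgroup.centralizer ({J} : Set G)) = cJ at hm4 hv
      have hcJ : cJ = 4 * (m * w * s) := by
        refine Nat.eq_of_mul_eq_mul_left (show 0 < 4 by norm_num) ?_
        rw [hm4, hw]; ring
      refine Nat.eq_of_mul_eq_mul_left (show 0 < 4 by norm_num) ?_
      rw [← hg, hv, hcJ]; ring
    have hxd := hdvd ζ₂ (Nat.odd_iff.mpr (by omega))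
    have hqd := hdvd ζ₄ (Nat.odd_iff.mpr (by omega))
    rw [← hx] at hxd
    rw [← hq] at hqd
    have hs1 : s ≠ 1 := by
      have := hone ζ₂ hn2
      omega
    have key : ∀ d, 2 ≤ d → ¬ (d ∣ s ∧ d ∣ x) ∧ ¬ (d ∣ s ∧ d ∣ q) ∧ ¬ (d ∣ x ∧ d ∣ q) := by
      intro d hd
      refine ⟨fun ⟨h1, h2⟩ => ?_, fun ⟨h1, h2⟩ => ?_, fun ⟨h1, h2⟩ => ?_⟩
      · have : d ∣ 1 := (Nat.dvd_add_right h2).1 (show x + 1 = 2 * s by omega ▸ h1.mul_left 2)
        have := Nat.le_of_dvd (by norm_num) this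
        omega
      · have : d ∣ 1 := (Nat.dvd_add_right h2).1 (hs ▸ h1.mul_left 4)
        have := Nat.le_of_dvd (by norm_num) this
        omega
      · have : d ∣ 1 := (Nat.dvd_add_right (h1.mul_left 2)).1 (show 2 * x + 1 = q by omega ▸ h2)
        have := Nat.le_of_dvd (by norm_num) this
        omega
    obtain ⟨k3a, k3b, k3c⟩ := key 3 (by norm_num)
    obtain ⟨kra, krb, krc⟩ := key r (by omega)
    rcases three_dvd_or hr hsdvd hs1 with a1 | a1 <;>
      rcases three_dvd_or hr hxd (hone ζ₂ hn2) with a2 | a2 <;>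
      rcases three_dvd_or hr hqd (hone ζ₄ hn4) with a3 | a3 <;> simp_all
  · have d3 : (Cfsg.charDegree (ζ₃ : G → ℂ)) % 4 = 3 := by omega
    have hrelN : Cfsg.charDegree (ζ₃ : G → ℂ) + Cfsg.charDegree (ζ₄ : G → ℂ) =
        Cfsg.charDegree (ζ₂ : G → ℂ) + 1 := by
      have : ((Cfsg.charDegree (ζ₃ : G → ℂ) + Cfsg.charDegree (ζ₄ : G → ℂ) : ℕ) : ℂ) =
          ((Cfsg.charDegree (ζ₂ : G → ℂ) + 1 : ℕ) : ℂ) := by
        push_cast at hr1 ⊢
        linear_combination -hr1
      exact_mod_cast this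
    obtain ⟨ψ, hψ1, hψ3⟩ : ∃ ψ : Cfsg.IrrCharacter G, ψ ≠ oneChar G ∧
        Cfsg.charDegree (ψ : G → ℂ) = 3 := by
      rcases degree_three hrmem hj2 (hdvd ζ₂ (Nat.odd_iff.mpr (by omega)))
        (hdvd ζ₃ (Nat.odd_iff.mpr (by omega))) (hdvd ζ₄ (Nat.odd_iff.mpr (by omega)))
        (hone ζ₂ hn2) (hone ζ₃ hn3) (hone ζ₄ hn4) d2 d3 d4 hrelN with h' | h'
      · exact ⟨ζ₃, ne_oneChar hn3, h'⟩
      · exact ⟨ζ₄, ne_oneChar hn4, h'⟩
    let Q : Sylow 3 G := default
    have h9 := card_three_le hG ψ hψ1 (apply_one' ψ hψ3) Q Q.2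
    have h3m : ¬ 3 ∣ 4 * r ^ j := by
      intro hd
      rcases Nat.prime_three.dvd_mul.mp hd with h' | h'
      · norm_num at h'
      · have := (Nat.prime_dvd_prime_iff_eq Nat.prime_three hr).mp
          (Nat.prime_three.dvd_of_dvd_pow h')
        omega
    rw [Sylow.card_sylow_eq Q (a := i) (m := 4 * r ^ j) (by rw [h]; ring) h3m] at h9
    have : 3 ^ 3 ≤ 3 ^ i := Nat.pow_le_pow_right (by norm_num) hi
    omega

/-- A small power of three. -/
theorem card_le_of_small (hG : ¬ IsMulCommutative G) {i r j : ℕ} (hr : r.Prime) (hr5 : 5 ≤ r)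
    (hi1 : 1 ≤ i) (hi2 : i ≤ 2) (hj : 1 ≤ j) (h : Nat.card G = 4 * 3 ^ i * r ^ j) :
    Nat.card G ≤ 1092 := by
  haveI := Fact.mk hr
  obtain ⟨χ, hχ1, hχ4⟩ := exists_degree_four hG hr hr5 (Or.inl hi2) h
  have hm : Nat.card G = r ^ j * (4 * 3 ^ i) := by rw [h]; ring
  have hrm : ¬ r ∣ 4 * 3 ^ i := by
    intro hd
    rcases hr.dvd_mul.mp hd with h' | h'
    · have := Nat.le_of_dvd (by norm_num) h'
      omega
    · have := (Nat.prime_dvd_prime_iff_eq hr Nat.prime_three).mp (hr.dvd_of_dvd_pow h')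
      omega
  let R : Sylow r G := default
  have hRab := (card_le_of_lt hG χ hχ1 (apply_one' χ hχ4) (show 4 < r by omega) R R.2).1
  have hRcard := Sylow.card_sylow_eq R hm hrm
  have hne := Sylow.card_sylow_ne_one hm hrm (by omega) (by
    have : 0 < 3 ^ i := pow_pos (by norm_num) i
    omega)
  have hdiv := Sylow.card_sylow_dvd hm hrm
  have hmod := Sylow.card_sylow_mod (p := r) (G := G)
  have hfact := Sylow.two_mul_card_dvd_sylow_factorial hG hne
  have hN := Sylow.card_normalizer_mul R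
  have h36 : Nat.card (Sylow r G) ∣ 36 := hdiv.trans (by
    have := Nat.mul_dvd_mul_left 4 (pow_dvd_pow 3 hi2)
    simpa using this)
  generalize hn : Nat.card (Sylow r G) = n at hne hdiv hmod hfact hN h36
  have hcases : n = 6 ∧ r = 5 ∨ n = 12 ∧ r = 11 ∨ n = 18 ∧ r = 17 ∨ n = 36 := by
    have hn36 : n ≤ 36 := Nat.le_of_dvd (by norm_num) h36
    have hn0 : n ≠ 0 := fun e => by rw [e] at hmod; simp at hmod
    have hrn : r ∣ n - 1 := by
      rw [Nat.dvd_iff_mod_eq_zero, ← Nat.sub_mod_eq_zero_of_mod_eq]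
      rw [hmod, Nat.mod_eq_of_lt hr.one_lt]
    interval_cases n <;>
      first
      | omega
      | (norm_num at h36; done)
      | (have hle := Nat.le_of_dvd (by norm_num) hrn
         interval_cases r <;>
           first
           | omega
           | (norm_num at hr; done)
           | (norm_num at hrn; done))
  have hj1 : n < 36 → n < 2 * r → j = 1 := by
    intro hn36 hlt
    by_contra hj1
    have h2 : r ^ 2 ∣ n.factorial :=
      ((pow_dvd_pow r (show 2 ≤ j by omega)).trans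
        ((dvd_mul_left _ (4 * 3 ^ i)).trans (by rw [← h]; exact dvd_mul_left _ 2))).trans hfact
    rcases hcases with ⟨rfl, rfl⟩ | ⟨rfl, rfl⟩ | ⟨rfl, rfl⟩ | rfl <;>
      (try norm_num at hn36) <;> norm_num [Nat.factorial] at h2
  have h3i : 3 ^ i ≤ 9 := by simpa using Nat.pow_le_pow_right (by norm_num : 1 ≤ 3) hi2
  rcases hcases with ⟨rfl, rfl⟩ | ⟨rfl, rfl⟩ | ⟨rfl, rfl⟩ | rfl
  · rw [h, hj1 (by norm_num) (by norm_num)]; omega
  · rw [h, hj1 (by norm_num) (by norm_num)]; omega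
  · rw [h, hj1 (by norm_num) (by norm_num)]; omega
  exfalso
  have hle : (R : Subgroup G) ≤ Subgroup.normalizer ((R : Subgroup G) : Set G) := Subgroup.le_normalizer
  have hi : i = 2 := by
    interval_cases i
    · norm_num at hdiv
    · rfl
  have hcard : Nat.card (Subgroup.normalizer ((R : Subgroup G) : Set G)) = Nat.card (R : Subgroup G) := by
    rw [hRcard]
    rw [hm, hi] at hN
    norm_num at hN
    omega
  refine Sylow.not_normalizer_le_centralizer hG R ?_ ?_
  · intro hb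
    rw [hb, Subgroup.card_bot] at hRcard
    have := Nat.one_lt_pow (show j ≠ 0 by omega) hr.one_lt
    omega
  · rw [← Subgroup.eq_of_le_of_card_ge hle hcard.le]
    exact fun a ha b hb => hRab b hb a ha

/-- The orders of the simple groups of order `4 p ^ a q ^ b` with `a ≤ 2`. -/
theorem card_of_four (hG : ¬ IsMulCommutative G) {p q a b : ℕ} (hp : p.Prime) (hq : q.Prime)
    (hpq : p ≠ q) (ha : a ≤ 2) (h : Nat.card G = 4 * p ^ a * q ^ b) : Nat.card G = 60 := by
  haveI : Fact (Nat.Prime 2) := ⟨Nat.prime_two⟩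
  have hp2 : p ≠ 2 := by
    rintro rfl
    exact Classif.OrderSieve.card_ne_two_primes hG 2 q (a + 2) b hp hq (by rw [h]; ring)
  have hq2 : q ≠ 2 := by
    rintro rfl
    exact Classif.OrderSieve.card_ne_two_primes hG 2 p (b + 2) a hq hp (by rw [h]; ring)
  have ha0 : a ≠ 0 := by
    rintro rfl
    exact Classif.OrderSieve.card_ne_two_primes hG 2 q 2 b Nat.prime_two hq (by rw [h]; ring)
  have hb0 : b ≠ 0 := by
    rintro rfl
    exact Classif.OrderSieve.card_ne_two_primes hG 2 p 2 a Nat.prime_two hp (by rw [h]; ring)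
  have hodd : Odd (p ^ a * q ^ b) :=
    Odd.mul (Odd.pow (hp.odd_of_ne_two hp2)) (Odd.pow (hq.odd_of_ne_two hq2))
  rw [mul_assoc] at h
  have h2 : Even (Nat.card G) := by rw [h]; exact Even.mul_right (by decide) _
  have h8 : ¬ 8 ∣ Nat.card G := by
    rw [h, show (8 : ℕ) = 4 * 2 from rfl]
    exact fun hd => hodd.not_two_dvd_nat (Nat.dvd_of_mul_dvd_mul_left (by norm_num) hd)
  have h3 : 3 ∣ Nat.card G := by
    by_contra h3
    let T : Sylow 2 G := default
    have hT := (S0992.result hG h2 h8 T).1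
    obtain ⟨P, N, hN, hc⟩ := S0084.result T hT h3
    have h4 : Nat.card (P : Subgroup G) = 4 := by
      rw [Sylow.card_sylow_eq P (a := 2) (m := p ^ a * q ^ b) (by rw [h]; norm_num)
        hodd.not_two_dvd_nat]
      norm_num
    rcases hN.eq_bot_or_eq_top with hb | hb <;> rw [hb] at hc
    · rw [Subgroup.isComplement'_bot_left] at hc
      rw [hc, Subgroup.card_top] at h4
      exact Classif.OrderSieve.card_ne_two_primes hG 2 2 2 0 Nat.prime_two Nat.prime_two
        (by rw [h4]; norm_num)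
    · rw [Subgroup.isComplement'_top_left] at hc
      rw [hc, Subgroup.card_bot] at h4
      norm_num at h4
  obtain ⟨i, r, j, hr, hr3, hij, hi0, hj0, hG'⟩ : ∃ i r j : ℕ, r.Prime ∧ r ≠ 3 ∧ (i ≤ 2 ∨ j ≤ 2) ∧
      i ≠ 0 ∧ j ≠ 0 ∧ r ≠ 2 ∧ Nat.card G = 4 * 3 ^ i * r ^ j := by
    rw [h] at h3
    rcases Nat.prime_three.dvd_mul.mp h3 with h' | h'
    · norm_num at h'
    rcases Nat.prime_three.dvd_mul.mp h' with h' | h'
    · obtain rfl := ((Nat.prime_dvd_prime_iff_eq Nat.prime_three hp).mp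
        (Nat.prime_three.dvd_of_dvd_pow h')).symm
      exact ⟨a, q, b, hq, Ne.symm hpq, Or.inl ha, ha0, hb0, hq2, by rw [h, mul_assoc]⟩
    · obtain rfl := ((Nat.prime_dvd_prime_iff_eq Nat.prime_three hq).mp
        (Nat.prime_three.dvd_of_dvd_pow h')).symm
      exact ⟨b, p, a, hp, hpq, Or.inr ha, hb0, ha0, hp2, by rw [h]; ring⟩
  obtain ⟨hr2, hG'⟩ := hG'
  have hr5 : 5 ≤ r := by
    have := hr.two_le
    rcases Nat.lt_or_ge r 5 with hlt | hge
    · interval_cases r
      · exact absurd rfl hr2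
      · exact absurd rfl hr3
      · norm_num at hr
    · exact hge
  have hle : Nat.card G ≤ 1092 := by
    by_cases hi : i ≤ 2
    · exact card_le_of_small hG hr hr5 (Nat.pos_of_ne_zero hi0) hi (Nat.pos_of_ne_zero hj0) hG'
    · exact (three_exponent_le hG hr hr5 (by omega) (Nat.pos_of_ne_zero hj0)
        (hij.resolve_left hi) hG').elim
  have hlist := S0496.result hG hle
  have hthree : ∀ {x : ℕ}, x.Prime → x ∣ Nat.card G → x = 2 ∨ x = 3 ∨ x = r := by
    intro x hx hd
    rw [hG'] at hd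
    rcases hx.dvd_mul.mp hd with h' | h'
    · rcases hx.dvd_mul.mp h' with h' | h'
      · exact Or.inl ((Nat.prime_dvd_prime_iff_eq hx Nat.prime_two).mp
          (hx.dvd_of_dvd_pow (show x ∣ 2 ^ 2 from h')))
      · exact Or.inr (Or.inl ((Nat.prime_dvd_prime_iff_eq hx Nat.prime_three).mp (hx.dvd_of_dvd_pow h')))
    · exact Or.inr (Or.inr ((Nat.prime_dvd_prime_iff_eq hx hr).mp (hx.dvd_of_dvd_pow h')))
  rcases hlist with e | e | e | e | e | e
  · exact e
  all_goals (exfalso; rw [e] at h8 hthree)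
  · norm_num at h8
  · norm_num at h8
  · norm_num at h8
  · have := hthree (x := 5) (by norm_num) (by norm_num)
    have := hthree (x := 11) (by norm_num) (by norm_num)
    omega
  · have := hthree (x := 7) (by norm_num) (by norm_num)
    have := hthree (x := 13) (by norm_num) (by norm_num)
    omega

end Cfsg.Agent.Lib.BC77.ThreePrime
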