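import Cfsg.Agent.Lib.BC77.ThreePrime.Arc
import Cfsg.Agent.Lib.Characters.Kernel
import Mathlib.Analysis.SpecialFunctions.Complex.CircleAddChar
import Mathlib.GroupTheory.Sylow
import Mathlib.GroupTheory.SpecificGroups.Cyclic

/-!
# Prime power subgroups of simple linear groups of degree three and four

An abelian subgroup of order `32` or `9` of a simple linear group of degree three would contain a
non-trivial element with all three eigenvalues within one sixth of the circle of one of them.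
-/

set_option autoImplicit false

namespace Cfsg.Agent.Lib.BC77.ThreePrime

open Cfsg.Agent.Lib.Characters.Basic
open Cfsg.Agent.Lib.DegreeBounds.Blichfeldt (Faithful faithful_restrict charDegree_restrict)

universe u

/-! ## Residues in a short arc -/

/-- A small residue is a root of unity at distance less than one from `1`. -/
theorem norm_std_sub_one_lt {N : ℕ} [NeZero N] {d : ℤ} (hd : 6 * |d| < (N : ℤ)) :
    ‖(ZMod.stdAddChar (d : ZMod N) : ℂ) - 1‖ < 1 := by
  have hp : (0 : ℝ) < N := by exact_mod_cast Nat.pos_of_ne_zero (NeZero.ne N)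
  rw [ZMod.stdAddChar_coe]
  set θ : ℝ := 2 * Real.pi * d / N with hθ
  have harg : 2 * (Real.pi : ℂ) * Complex.I * d / N = (θ : ℂ) * Complex.I := by
    rw [hθ]; push_cast; ring
  rw [harg]
  have hθ' : |θ| < Real.pi / 3 := by
    rw [hθ, abs_div, abs_mul, abs_of_pos (by positivity : 0 < 2 * Real.pi), abs_of_pos hp,
      div_lt_div_iff₀ hp (by norm_num)]
    have h : (6 : ℝ) * |(d : ℝ)| < N := by exact_mod_cast hd
    nlinarith [Real.pi_pos, abs_nonneg (d : ℝ)]
  have hcos : (1 : ℝ) / 2 < Real.cos θ := by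
    rw [← Real.cos_abs, ← Real.cos_pi_div_three]
    exact Real.cos_lt_cos_of_nonneg_of_le_pi_div_two (abs_nonneg θ)
      (by linarith [Real.pi_pos]) hθ'
  have hsq : ‖Complex.exp ((θ : ℂ) * Complex.I) - 1‖ ^ 2 < 1 := by
    rw [← Complex.normSq_eq_norm_sq, Complex.normSq_apply]
    simp only [Complex.sub_re, Complex.sub_im, Complex.exp_ofReal_mul_I_re,
      Complex.exp_ofReal_mul_I_im, Complex.one_re, Complex.one_im, sub_zero]
    nlinarith [Real.sin_sq_add_cos_sq θ]
  nlinarith [norm_nonneg (Complex.exp ((θ : ℂ) * Complex.I) - 1)]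

/-- Two residues differ by less than a sixth of the modulus. -/
def closeMod (N a b : ℕ) : Bool :=
  decide (6 * ((a + N - b) % N) < N) || decide (6 * ((b + N - a) % N) < N)

theorem norm_lt_of_closeMod {N : ℕ} [NeZero N] {x y : ZMod N}
    (h : closeMod N x.val y.val = true) :
    ‖(ZMod.stdAddChar x : ℂ) - ZMod.stdAddChar y‖ < 1 := by
  have key : ∀ x y : ZMod N, 6 * ((x.val + N - y.val) % N) < N →
      ‖(ZMod.stdAddChar x : ℂ) - ZMod.stdAddChar y‖ < 1 := by
    intro x y hlt
    have hcast : ((((x.val + N - y.val) % N : ℕ) : ℤ) : ZMod N) = x - y := by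
      rw [Int.cast_natCast, ZMod.natCast_mod, Nat.cast_sub (by have := y.val_lt; omega),
        Nat.cast_add, ZMod.natCast_self, add_zero, ZMod.natCast_zmod_val, ZMod.natCast_zmod_val]
    have e : (ZMod.stdAddChar x : ℂ) - ZMod.stdAddChar y =
        ZMod.stdAddChar y * ((ZMod.stdAddChar (x - y) : ℂ) - 1) := by
      rw [mul_sub, mul_one, ← AddChar.map_add_eq_mul, add_sub_cancel]
    rw [e, norm_mul, Complex.norm_eq_one_of_pow_eq_one (n := N) (by
      rw [← AddChar.map_nsmul_eq_pow, nsmul_eq_mul, ZMod.natCast_self, zero_mul,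
        AddChar.map_zero_eq_one]) (NeZero.ne N), one_mul, ← hcast]
    refine norm_std_sub_one_lt ?_
    rw [abs_of_nonneg (Int.natCast_nonneg _)]
    exact_mod_cast hlt
  simp only [closeMod, Bool.or_eq_true, decide_eq_true_eq] at h
  rcases h with h | h
  · exact key x y h
  · rw [norm_sub_rev]
    exact key y x h

/-- One of three residues with sum zero is close to the other two, and they are not all zero. -/
def shortVec (N x y : ℕ) : Bool :=
  let z := (N + N - x - y) % N
  (decide (x ≠ 0) || decide (y ≠ 0)) &&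
    ((closeMod N y x && closeMod N z x) || (closeMod N x y && closeMod N z y) ||
      (closeMod N x z && closeMod N y z))

/-- Every subgroup of order `p ^ k` of pairs modulo `p ^ k` has a short vector. -/
def tableOK (p k : ℕ) : Bool :=
  (List.range (k + 1)).all fun i => (List.range (p ^ k)).all fun y =>
    (List.range (p ^ k)).any fun a => (List.range (p ^ i)).any fun b =>
      shortVec (p ^ k) (a * p ^ i % p ^ k) ((a * y + b * p ^ (k - i)) % p ^ k)

theorem tableOK_two : tableOK 2 5 = true := by decide +kernel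

theorem tableOK_three : tableOK 3 2 = true := by decide +kernel

/-! ## Exponent vectors -/

/-- Subgroups of residues modulo a prime power. -/
theorem mem_of_card {p k m : ℕ} [Fact p.Prime] (H : AddSubgroup (ZMod (p ^ k)))
    (hH : Nat.card H = p ^ m) (hm : m ≤ k) : ((p ^ (k - m) : ℕ) : ZMod (p ^ k)) ∈ H := by
  classical
  haveI : NeZero (p ^ k) := ⟨pow_ne_zero _ (Fact.out : p.Prime).ne_zero⟩
  let T := Finset.univ.filter fun x : ZMod (p ^ k) => (p ^ m) • x = 0
  have hT : T.card ≤ p ^ m :=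
    IsAddCyclic.card_nsmul_eq_zero_le (pow_pos (Fact.out : p.Prime).pos _)
  have hsub : (H : Set (ZMod (p ^ k))).toFinset ⊆ T := by
    intro x hx
    rw [Set.mem_toFinset] at hx
    simp only [T, Finset.mem_filter, Finset.mem_univ, true_and]
    have h := card_nsmul_eq_zero' (x := (⟨x, hx⟩ : H))
    rw [hH] at h
    exact congrArg Subtype.val h
  have heq := Finset.eq_of_subset_of_card_le hsub (by
    rw [Set.toFinset_card, ← Nat.card_eq_fintype_card]
    exact hT.trans hH.ge)
  have hin : ((p ^ (k - m) : ℕ) : ZMod (p ^ k)) ∈ T := by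
    simp only [T, Finset.mem_filter, Finset.mem_univ, true_and]
    rw [nsmul_eq_mul, ← Nat.cast_mul, ← pow_add, Nat.add_sub_cancel' hm, ZMod.natCast_self]
  rw [← heq, Set.mem_toFinset] at hin
  exact hin

/-- Triangular generators of a subgroup of order `p ^ k` of pairs modulo `p ^ k`. -/
theorem exists_triangular {p k : ℕ} [Fact p.Prime] (I : AddSubgroup (ZMod (p ^ k) × ZMod (p ^ k)))
    (hI : Nat.card I = p ^ k) : ∃ (i : ℕ) (y : ZMod (p ^ k)), i ≤ k ∧
      ((((p ^ i : ℕ) : ZMod (p ^ k))), y) ∈ I ∧ (0, ((p ^ (k - i) : ℕ) : ZMod (p ^ k))) ∈ I := by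
  classical
  have hp : p.Prime := Fact.out
  haveI : NeZero (p ^ k) := ⟨pow_ne_zero _ hp.ne_zero⟩
  let π : I →+ ZMod (p ^ k) := (AddMonoidHom.fst _ _).comp I.subtype
  have h1 : Nat.card π.ker * Nat.card π.range = p ^ k := by
    rw [← AddSubgroup.index_ker, AddSubgroup.card_mul_index]
    exact hI
  obtain ⟨i, hik, hi⟩ := (Nat.dvd_prime_pow hp).mp (h1 ▸ dvd_mul_right (Nat.card π.ker) (Nat.card π.range))
  have hr : Nat.card π.range = p ^ (k - i) := by
    rw [hi] at h1
    refine Nat.eq_of_mul_eq_mul_left (pow_pos hp.pos i) ?_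
    rw [h1, ← pow_add, Nat.add_sub_cancel' hik]
  obtain ⟨v, hv⟩ : ((p ^ i : ℕ) : ZMod (p ^ k)) ∈ π.range := by
    have := mem_of_card π.range hr (Nat.sub_le k i)
    rwa [Nat.sub_sub_self hik] at this
  refine ⟨i, v.1.2, hik, ?_, ?_⟩
  · have : v.1.1 = ((p ^ i : ℕ) : ZMod (p ^ k)) := hv
    rw [← this]
    exact v.2
  let κ : π.ker →+ ZMod (p ^ k) :=
    ((AddMonoidHom.snd _ _).comp I.subtype).comp π.ker.subtype
  have hκ : Function.Injective κ := by
    intro a b hab
    have ha : a.1.1.1 = 0 := a.2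
    have hb : b.1.1.1 = 0 := b.2
    exact Subtype.ext (Subtype.ext (Prod.ext (ha.trans hb.symm) hab))
  have hκr : Nat.card κ.range = p ^ i := by
    rw [← hi]
    exact (Nat.card_congr (AddMonoidHom.ofInjective hκ).toEquiv).symm
  obtain ⟨w, hw⟩ := mem_of_card κ.range hκr hik
  have hw1 : w.1.1.1 = 0 := w.2
  have hw2 : w.1.1.2 = ((p ^ (k - i) : ℕ) : ZMod (p ^ k)) := hw
  rw [← hw2, ← hw1]
  exact w.1.2

section

variable {A : Type u} [Group A] [Finite A] {n : ℕ}

/-- Exponents of linear characters of exponent dividing `N`. -/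
theorem exists_exps (N : ℕ) [NeZero N] (hexp : ∀ a : A, a ^ N = 1) (L : Fin n → (A →* ℂˣ)) :
    ∃ e : Fin n → (Additive A →+ ZMod N),
      ∀ i a, (ZMod.stdAddChar (e i (Additive.ofMul a)) : ℂ) = L i a := by
  have hprim : IsPrimitiveRoot (ZMod.stdAddChar (1 : ZMod N) : ℂ) N := by
    rw [IsPrimitiveRoot.iff_def]
    refine ⟨by rw [← AddChar.map_nsmul_eq_pow, nsmul_eq_mul, ZMod.natCast_self, zero_mul,
      AddChar.map_zero_eq_one], fun l hl => ?_⟩
    rw [← AddChar.map_nsmul_eq_pow, nsmul_eq_mul, mul_one,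
      ← AddChar.map_zero_eq_one (ZMod.stdAddChar (N := N))] at hl
    exact (ZMod.natCast_eq_zero_iff _ _).mp (ZMod.injective_stdAddChar hl)
  have hex : ∀ i (a : A), ∃ j : ZMod N, (ZMod.stdAddChar j : ℂ) = L i a := by
    intro i a
    obtain ⟨l, -, hl⟩ := hprim.eq_pow_of_pow_eq_one (ξ := ((L i a : ℂˣ) : ℂ)) (by
      rw [← Units.val_pow_eq_pow_val, ← map_pow, hexp, map_one, Units.val_one])
    exact ⟨(l : ZMod N), by rw [← hl, ← AddChar.map_nsmul_eq_pow, nsmul_eq_mul, mul_one]⟩
  choose f hf using hex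
  refine ⟨fun i => AddMonoidHom.mk' (fun a => f i a.toMul) fun a b => ?_, fun i a => hf i a⟩
  apply ZMod.injective_stdAddChar
  rw [AddChar.map_add_eq_mul, hf, hf, hf, toMul_add, map_mul, Units.val_mul]

/-- A table excludes three linear constituents on a group of order `p ^ k`. -/
theorem not_table {p k : ℕ} [Fact p.Prime] (ht : tableOK p k = true)
    (hA : Nat.card A = p ^ k) (L : Fin 3 → (A →* ℂˣ)) (hL1 : ∀ a : A, ∏ i, L i a = 1)
    (hL : ∀ a : A, a ≠ 1 → ∀ j, ∃ i, 1 ≤ ‖((L i a : ℂˣ) : ℂ) - L j a‖) : False := by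
  classical
  haveI : NeZero (p ^ k) := ⟨pow_ne_zero _ (Fact.out : p.Prime).ne_zero⟩
  obtain ⟨e, he⟩ := exists_exps (p ^ k) (fun a => hA ▸ pow_card_eq_one') L
  let φ : Additive A →+ ZMod (p ^ k) × ZMod (p ^ k) := (e 0).prod (e 1)
  have hsum : ∀ a : A, e 0 (Additive.ofMul a) + e 1 (Additive.ofMul a) + e 2 (Additive.ofMul a) = 0 := by
    intro a
    apply ZMod.injective_stdAddChar
    rw [AddChar.map_add_eq_mul, AddChar.map_add_eq_mul, AddChar.map_zero_eq_one, he, he, he,
      ← Units.val_mul, ← Units.val_mul, ← Fin.prod_univ_three fun i => L i a, hL1, Units.val_one]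
  have hinj : Function.Injective φ := by
    refine (injective_iff_map_eq_zero φ).mpr fun a ha => ?_
    obtain ⟨a, rfl⟩ := Additive.ofMul.surjective a
    have h0 : e 0 (Additive.ofMul a) = 0 := congrArg Prod.fst ha
    have h1 : e 1 (Additive.ofMul a) = 0 := congrArg Prod.snd ha
    have h2 : e 2 (Additive.ofMul a) = 0 := by simpa [h0, h1] using hsum a
    by_contra hne
    obtain ⟨i, hi⟩ := hL a (fun h => hne (by rw [h]; rfl)) 0
    rw [← he i, ← he 0, h0] at hi
    fin_cases i <;> simp_all <;> norm_num at hi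
  have hI : Nat.card φ.range = p ^ k := by
    rw [← Nat.card_congr (AddMonoidHom.ofInjective hinj).toEquiv, ← hA]
    rfl
  obtain ⟨i, y, hik, hv, hw⟩ := exists_triangular φ.range hI
  simp only [tableOK, List.all_eq_true, List.any_eq_true, List.mem_range] at ht
  obtain ⟨a, -, b, -, hab⟩ := ht i (by omega) y.val (ZMod.val_lt y)
  obtain ⟨g, hg⟩ := add_mem (nsmul_mem hv a) (nsmul_mem hw b)
  obtain ⟨g, rfl⟩ := Additive.ofMul.surjective g
  have hg0 : e 0 (Additive.ofMul g) = ((a * p ^ i : ℕ) : ZMod (p ^ k)) := by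
    have := congrArg Prod.fst hg
    simpa [φ] using this
  have hg1 : e 1 (Additive.ofMul g) =
      ((a * y.val + b * p ^ (k - i) : ℕ) : ZMod (p ^ k)) := by
    have := congrArg Prod.snd hg
    simpa [φ] using this
  have hN : 0 < p ^ k := pow_pos (Fact.out : p.Prime).pos k
  generalize hX : a * p ^ i % p ^ k = X at hab
  generalize hY : (a * y.val + b * p ^ (k - i)) % p ^ k = Y at hab
  have hx : (e 0 (Additive.ofMul g)).val = X := by rw [hg0, ZMod.val_natCast, hX]
  have hy : (e 1 (Additive.ofMul g)).val = Y := by rw [hg1, ZMod.val_natCast, hY]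
  have hz : (e 2 (Additive.ofMul g)).val = (p ^ k + p ^ k - X - Y) % p ^ k := by
    have hXlt : X < p ^ k := hX ▸ Nat.mod_lt _ hN
    have hYlt : Y < p ^ k := hY ▸ Nat.mod_lt _ hN
    have : e 2 (Additive.ofMul g) = (((p ^ k + p ^ k - X - Y : ℕ)) : ZMod (p ^ k)) := by
      rw [Nat.cast_sub (by omega), Nat.cast_sub (by omega), Nat.cast_add, ZMod.natCast_self,
        ← hx, ← hy, ZMod.natCast_zmod_val, ZMod.natCast_zmod_val]
      linear_combination hsum g
    rw [this, ZMod.val_natCast]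
  simp only [shortVec, Bool.and_eq_true, Bool.or_eq_true, decide_eq_true_eq] at hab
  obtain ⟨hne, hclose⟩ := hab
  have hg1' : g ≠ 1 := by
    rintro rfl
    rw [ofMul_one, map_zero, ZMod.val_zero] at hx hy
    rcases hne with h | h <;> simp [← hx, ← hy] at h
  have hfar : ∀ j, ∃ l, ¬ closeMod (p ^ k) (e l (Additive.ofMul g)).val (e j (Additive.ofMul g)).val = true := by
    intro j
    obtain ⟨l, hl⟩ := hL g hg1' j
    refine ⟨l, fun hc => ?_⟩
    have := norm_lt_of_closeMod hc
    rw [he, he] at this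
    linarith
  have hself : ∀ x : ℕ, closeMod (p ^ k) x x = true := fun x => by
    simp [closeMod, hN]
  rcases hclose with (⟨h1, h2⟩ | ⟨h1, h2⟩) | ⟨h1, h2⟩
  · obtain ⟨l, hl⟩ := hfar 0
    fin_cases l <;> simp_all
  · obtain ⟨l, hl⟩ := hfar 1
    fin_cases l <;> simp_all
  · obtain ⟨l, hl⟩ := hfar 2
    fin_cases l <;> simp_all

end

/-! ## Subgroups of simple groups -/

variable {G : Type u} [Group G] [Finite G] [IsSimpleGroup G]

theorem faithful_of_ne_one (χ : Cfsg.IrrCharacter G) (hχ1 : χ ≠ oneChar G) :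
    Faithful (χ : G → ℂ) := by
  intro g hg
  by_contra hne
  have hex : ∃ u : G, (χ : G → ℂ) u ≠ (χ : G → ℂ) 1 := by
    by_contra! hall
    have := Fintype.ofFinite G
    apply hχ1
    by_contra hne2
    have h2 := classInner_irr χ (oneChar G)
    rw [if_neg hne2, Cfsg.classInner] at h2
    simp only [hall, oneChar_apply, map_one, mul_one, Finset.sum_const, Finset.card_univ,
      nsmul_eq_mul] at h2
    rcases mul_eq_zero.mp h2 with h3 | h3
    · exact inv_ne_zero (Nat.cast_ne_zero.mpr Nat.card_pos.ne') h3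
    · rcases mul_eq_zero.mp h3 with h4 | h4
      · exact Nat.cast_ne_zero.mpr Fintype.card_ne_zero h4
      · exact apply_one_ne_zero χ h4
  obtain ⟨u, hu⟩ := hex
  have hk := Characters.Kernel.charKer_eq_bot_of_simple (isCharacter_irr χ) hu
  have hmem : g ∈ Characters.Kernel.charKer (isCharacter_irr χ) :=
    (Characters.Kernel.mem_charKer _ g).mpr hg
  rw [hk] at hmem
  exact hne (Subgroup.mem_bot.mp hmem)

/-- A `p`-subgroup has an abelian subgroup of index dividing `n!`. -/
theorem exists_abelian (χ : Cfsg.IrrCharacter G) (hχ1 : χ ≠ oneChar G) {n : ℕ}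
    (hn : (χ : G → ℂ) 1 = (n : ℂ)) {p : ℕ} [Fact p.Prime] (P : Subgroup G) (hP : IsPGroup p P) :
    ∃ A : Subgroup G, A ≤ P ∧ (∀ a ∈ A, ∀ b ∈ A, a * b = b * a) ∧
      ∃ e : ℕ, p ^ e ∣ n.factorial ∧ Nat.card P = p ^ e * Nat.card A := by
  haveI : Group.IsNilpotent P := IsPGroup.isNilpotent hP
  obtain ⟨A, hAc, hAi⟩ := DegreeBounds.Jordan.exists_abelian_pgroup
    (isCharacter_comp P.subtype (isCharacter_irr χ))
    (faithful_restrict (faithful_of_ne_one χ hχ1) P)
  obtain ⟨e, he⟩ := IsPGroup.index hP A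
  refine ⟨A.map P.subtype, Subgroup.map_subtype_le A, ?_, e, ?_, ?_⟩
  · rintro _ ⟨a, ha, rfl⟩ _ ⟨b, hb, rfl⟩
    exact congrArg Subtype.val (hAc a ha b hb)
  · rw [charDegree_restrict] at hAi
    have : Cfsg.charDegree (χ : G → ℂ) = n := by
      rw [Cfsg.charDegree, hn, Complex.natCast_re, Nat.floor_natCast]
    rw [this, he] at hAi
    exact hAi
  · rw [Subgroup.card_map_of_injective P.subtype_injective, ← he, Subgroup.index_mul_card]

/-- Abelian subgroups in degree `n` have order at most `6 ^ (n - 1)`. -/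
theorem card_abelian_le (hG : ¬ IsMulCommutative G) (χ : Cfsg.IrrCharacter G)
    (hχ1 : χ ≠ oneChar G) {n : ℕ} (hn : (χ : G → ℂ) 1 = (n : ℂ)) (A : Subgroup G)
    (hA : ∀ a ∈ A, ∀ b ∈ A, a * b = b * a) : Nat.card A ≤ 6 ^ (n - 1) := by
  obtain ⟨L, -, hL⟩ := exists_lin hG χ hχ1 hn A hA
  refine card_le L (Nat.pos_of_ne_zero ?_) hL
  rintro rfl
  exact apply_one_ne_zero χ (by rw [hn, Nat.cast_zero])

/-- A `p`-subgroup in degree `n < p` is small. -/
theorem card_le_of_lt (hG : ¬ IsMulCommutative G) (χ : Cfsg.IrrCharacter G) (hχ1 : χ ≠ oneChar G)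
    {n : ℕ} (hn : (χ : G → ℂ) 1 = (n : ℂ)) {p : ℕ} [Fact p.Prime] (hnp : n < p) (P : Subgroup G)
    (hP : IsPGroup p P) : (∀ a ∈ P, ∀ b ∈ P, a * b = b * a) ∧ Nat.card P ≤ 6 ^ (n - 1) := by
  obtain ⟨A, hAP, hA, e, he, hc⟩ := exists_abelian χ hχ1 hn P hP
  have he0 : e = 0 := by
    by_contra he0
    have := ((Fact.out : p.Prime).dvd_factorial).mp ((dvd_pow_self p he0).trans he)
    omega
  rw [he0, pow_zero, one_mul] at hc
  obtain rfl := Subgroup.eq_of_le_of_card_ge hAP hc.le
  exact ⟨hA, card_abelian_le hG χ hχ1 hn A hA⟩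

/-- A table bounds abelian `p`-subgroups in degree three. -/
theorem card_abelian_lt (hG : ¬ IsMulCommutative G) (χ : Cfsg.IrrCharacter G)
    (hχ1 : χ ≠ oneChar G) (hn : (χ : G → ℂ) 1 = (3 : ℕ)) {p k : ℕ} [Fact p.Prime]
    (ht : tableOK p k = true) (A : Subgroup G) (hA : ∀ a ∈ A, ∀ b ∈ A, a * b = b * a) :
    ¬ p ^ k ∣ Nat.card A := by
  intro hdvd
  obtain ⟨B, hB⟩ := Sylow.exists_subgroup_card_pow_prime p hdvd
  obtain ⟨L, hL1, hL⟩ := exists_lin hG χ hχ1 hn A hA
  exact not_table ht hB (fun i => (L i).comp B.subtype) (fun a => hL1 a)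
    (fun a ha j => hL a (fun h => ha (Subtype.ext h)) j)

/-- The `2`-subgroups in degree three. -/
theorem card_two_le (hG : ¬ IsMulCommutative G) (χ : Cfsg.IrrCharacter G) (hχ1 : χ ≠ oneChar G)
    (hn : (χ : G → ℂ) 1 = (3 : ℕ)) (P : Subgroup G) (hP : IsPGroup 2 P) : Nat.card P ≤ 32 := by
  haveI : Fact (Nat.Prime 2) := ⟨Nat.prime_two⟩
  obtain ⟨A, hAP, hA, e, he, hc⟩ := exists_abelian χ hχ1 hn P hP
  have he1 : e ≤ 1 := by
    by_contra! h
    have := (pow_dvd_pow 2 h).trans he
    norm_num [Nat.factorial] at this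
  obtain ⟨f, hf⟩ := IsPGroup.iff_card.mp (hP.to_le hAP)
  have hf4 : f ≤ 4 := by
    by_contra! h
    exact card_abelian_lt hG χ hχ1 hn tableOK_two A hA (hf ▸ pow_dvd_pow 2 h)
  rw [hc, hf, ← pow_add]
  exact (Nat.pow_le_pow_right (by norm_num) (by omega : e + f ≤ 5)).trans (by norm_num)

/-- The `3`-subgroups in degree three. -/
theorem card_three_le (hG : ¬ IsMulCommutative G) (χ : Cfsg.IrrCharacter G) (hχ1 : χ ≠ oneChar G)
    (hn : (χ : G → ℂ) 1 = (3 : ℕ)) (P : Subgroup G) (hP : IsPGroup 3 P) : Nat.card P ≤ 9 := by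
  haveI : Fact (Nat.Prime 3) := ⟨Nat.prime_three⟩
  obtain ⟨A, hAP, hA, e, he, hc⟩ := exists_abelian χ hχ1 hn P hP
  have he1 : e ≤ 1 := by
    by_contra! h
    have := (pow_dvd_pow 3 h).trans he
    norm_num [Nat.factorial] at this
  obtain ⟨f, hf⟩ := IsPGroup.iff_card.mp (hP.to_le hAP)
  have hf1 : f ≤ 1 := by
    by_contra! h
    exact card_abelian_lt hG χ hχ1 hn tableOK_three A hA (hf ▸ pow_dvd_pow 3 h)
  rw [hc, hf, ← pow_add]
  exact (Nat.pow_le_pow_right (by norm_num) (by omega : e + f ≤ 2)).trans (by norm_num)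

end Cfsg.Agent.Lib.BC77.ThreePrime
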