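import Cfsg.Agent.Lib.BC77.ThreePrime.Sylow
import Cfsg.Agent.Lib.BlocksChars5.Basic
import Cfsg.Agent.Lib.Characters.Degree
import Cfsg.Agent.Lib.Classif.OrderSieve
import Cfsg.Agent.Lib.Classif.IntersectionSubgroup
import Cfsg.Agent.S0496
import Cfsg.Agent.S4500
import Cfsg.Agent.S4503

/-!
# Simple groups of order `3 p^a q^b` with `a ≤ 2`

Such a group has an irreducible character of degree three, which bounds its Sylow subgroups.
-/

set_option autoImplicit false

namespace Cfsg.Agent.Lib.BC77.ThreePrime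

open Cfsg.Agent.Lib.Characters.Basic
open Cfsg.Agent.Lib.SmallGroups

universe u

variable {G : Type u} [Group G] [Finite G] [IsSimpleGroup G]

theorem not_comm {a b : G} (h : a * b ≠ b * a) : ¬ IsMulCommutative G := fun hc =>
  h (hc.is_comm.comm a b)

theorem ne_oneChar {χ : Cfsg.IrrCharacter G} (h : (χ : G → ℂ) ≠ fun _ => 1) : χ ≠ oneChar G :=
  fun e => h (e ▸ rfl)

theorem charDegree_dvd (χ : Cfsg.IrrCharacter G) : Cfsg.charDegree (χ : G → ℂ) ∣ Nat.card G := by
  obtain ⟨d, -, hd, h1⟩ := Characters.Degree.exists_degree_dvd χ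
  have : Cfsg.charDegree (χ : G → ℂ) = d := by
    rw [Cfsg.charDegree, h1, Complex.natCast_re, Nat.floor_natCast]
  rwa [this]

theorem apply_one' (χ : Cfsg.IrrCharacter G) {n : ℕ} (h : Cfsg.charDegree (χ : G → ℂ) = n) :
    (χ : G → ℂ) 1 = (n : ℂ) := by
  rw [BlocksChars5.Basic.apply_one χ, h]

/-- No non-principal linear character. -/
theorem degree_ne_one (hG : ¬ IsMulCommutative G) (χ : Cfsg.IrrCharacter G) (hχ1 : χ ≠ oneChar G) :
    Cfsg.charDegree (χ : G → ℂ) ≠ 1 := by
  intro h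
  obtain ⟨g, hg⟩ := exists_ne (1 : G)
  obtain ⟨L, -, hL⟩ := exists_lin hG χ hχ1 (apply_one' χ h) (Subgroup.zpowers g) fun a ha b hb => by
    obtain ⟨i, rfl⟩ := ha
    obtain ⟨j, rfl⟩ := hb
    exact ((Commute.refl g).zpow_zpow i j).eq
  obtain ⟨i, hi⟩ := hL ⟨g, Subgroup.mem_zpowers g⟩ (fun e => hg (congrArg Subtype.val e)) 0
  rw [Fin.fin_one_eq_zero i, sub_self, norm_zero] at hi
  exact absurd hi (by norm_num)

/-- A prime dividing the order once is at most `2 n + 1`. -/
theorem prime_le (hG : ¬ IsMulCommutative G) (χ : Cfsg.IrrCharacter G) (hχ1 : χ ≠ oneChar G)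
    {n : ℕ} (hn : Cfsg.charDegree (χ : G → ℂ) = n) {r m : ℕ} (hr : r.Prime)
    (h : Nat.card G = r ^ 1 * m) (hm : ¬ r ∣ m) : r ≤ 2 * n + 1 := by
  rw [pow_one] at h
  refine hn ▸ S4503.result r hr ⟨m, h⟩ ?_ ?_ _ (isCharacter_irr χ) (faithful_of_ne_one χ hχ1)
  · rintro ⟨c, hc⟩
    rw [h, pow_two, mul_assoc] at hc
    exact hm ⟨c, Nat.eq_of_mul_eq_mul_left hr.pos hc⟩
  · intro H hH hcard
    rcases hH.eq_bot_or_eq_top with hb | hb
    · rw [hb, Subgroup.card_bot] at hcard
      exact hr.ne_one hcard.symm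
    · rw [hb, Subgroup.card_top] at hcard
      exact Classif.OrderSieve.card_ne_two_primes hG r r 1 0 hr hr (by rw [hcard]; simp)

/-- The Sylow orders allowed by a character of degree three, apart from the prime three. -/
theorem part_mem (hG : ¬ IsMulCommutative G) (χ : Cfsg.IrrCharacter G) (hχ1 : χ ≠ oneChar G)
    (hn : Cfsg.charDegree (χ : G → ℂ) = 3) {r v m : ℕ} (hr : r.Prime) (hr3 : r ≠ 3)
    (h : Nat.card G = r ^ v * m) (hm : ¬ r ∣ m) :
    r ^ v ∈ ([1, 2, 4, 8, 16, 32, 5, 25, 7] : List ℕ) := by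
  haveI := Fact.mk hr
  let P : Sylow r G := default
  have hP := Sylow.card_sylow_eq P h hm
  rcases Nat.eq_zero_or_pos v with rfl | hv
  · simp
  rcases eq_or_ne r 2 with rfl | hr2
  · have h32 := card_two_le hG χ hχ1 (apply_one' χ hn) P P.2
    rw [hP] at h32
    have : v ≤ 5 := (Nat.pow_le_pow_iff_right (by norm_num : 1 < 2)).mp (by simpa using h32)
    interval_cases v <;> simp
  have hr5 : 5 ≤ r := by
    have := hr.two_le
    rcases Nat.lt_or_ge r 5 with hlt | hge
    · interval_cases r <;> simp_all (config := { decide := true })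
    · exact hge
  have h36 := (card_le_of_lt hG χ hχ1 (apply_one' χ hn) (show 3 < r by omega) P P.2).2
  rw [hP] at h36
  rcases eq_or_ne v 1 with rfl | hv1
  · have := prime_le hG χ hχ1 hn hr h hm
    interval_cases r <;> simp_all (config := { decide := true })
  · have h2 : r ^ 2 ≤ r ^ v := Nat.pow_le_pow_right hr.pos (by omega)
    norm_num at h36
    have hr6 : r ≤ 6 := by nlinarith
    have : v ≤ 2 := by
      by_contra! hlt
      have h3 : r ^ 3 ≤ r ^ v := Nat.pow_le_pow_right hr.pos hlt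
      have : 5 ^ 3 ≤ r ^ 3 := Nat.pow_le_pow_left hr5 3
      omega
    obtain rfl : v = 2 := by omega
    interval_cases r <;> simp_all (config := { decide := true })

/-- Two Sylow `5`-subgroups in a group of order `150` coincide. -/
theorem eq_of_card_150 {N : Type u} [Group N] [Finite N] (hN : Nat.card N = 150) (P R : Subgroup N)
    (hP : Nat.card P = 25) (hR : Nat.card R = 25) : P = R := by
  haveI : Fact (Nat.Prime 2) := ⟨Nat.prime_two⟩
  haveI : Fact (Nat.Prime 5) := ⟨by norm_num⟩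
  let S : Sylow 2 N := default
  have hS : Nat.card S = 2 := by
    rw [Sylow.card_sylow_eq S (a := 1) (m := 75) (by rw [hN]; norm_num) (by norm_num), pow_one]
  have hmin : (Nat.card N).minFac = 2 := by rw [hN]; norm_num
  haveI : IsCyclic S := isCyclic_of_prime_card hS
  have hc := IsCyclic.isComplement' (P := S) hmin inferInstance
  set K := (MonoidHom.transferSylow S ((inferInstance : IsCyclic S).normalizer_le_centralizer hmin)).ker
  have hK2 : K.index = 2 := by rw [hc.symm.index_eq_card]; exact hS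
  have hK : Nat.card K = 75 := by
    have := K.card_mul_index
    rw [hK2, hN] at this
    omega
  have hle : ∀ Q : Subgroup N, Nat.card Q = 25 → Q ≤ K := by
    intro Q hQ x hx
    have h1 : (x : N) ^ 25 = 1 := by
      have := pow_card_eq_one' (x := (⟨x, hx⟩ : Q))
      rw [hQ] at this
      exact congrArg Subtype.val this
    have h2 : ((x : N) : N ⧸ K) ^ 25 = 1 := by rw [← QuotientGroup.mk_pow, h1, QuotientGroup.mk_one]
    have h3 : ((x : N) : N ⧸ K) ^ 2 = 1 := by
      have := pow_card_eq_one' (x := ((x : N) : N ⧸ K))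
      rwa [← Subgroup.index, hK2] at this
    rw [← QuotientGroup.eq_one_iff]
    rw [← pow_one ((x : N) : N ⧸ K), show 1 = Nat.gcd 25 2 by norm_num]
    exact pow_gcd_eq_one.mpr ⟨h2, h3⟩
  have h75 : Nat.card K = 5 ^ 2 * 3 := by rw [hK]; norm_num
  have hns : Nat.card (Sylow 5 K) = 1 := by
    have h1 := Sylow.card_sylow_dvd (p := 5) h75 (by norm_num)
    have h2 := Sylow.card_sylow_mod (p := 5) (G := K)
    rcases (Nat.dvd_prime (by norm_num : Nat.Prime 3)).mp h1 with h | h
    · exact h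
    · rw [h] at h2
      norm_num at h2
  haveI : Subsingleton (Sylow 5 K) := (Nat.card_eq_one_iff_unique.mp hns).1
  have hsyl : ∀ Q : Subgroup N, Nat.card Q = 25 →
      ∃ S' : Sylow 5 K, (S' : Subgroup K) = Q.subgroupOf K := by
    intro Q hQ
    have hc : Nat.card (Q.subgroupOf K) = 5 ^ (Nat.card K).factorization 5 := by
      rw [Nat.card_congr (Subgroup.subgroupOfEquivOfLe (hle Q hQ)).toEquiv, hQ, h75,
        Nat.factorization_mul (by norm_num) (by norm_num),
        Nat.Prime.factorization_pow (by norm_num)]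
      simp [Nat.factorization_eq_zero_of_not_dvd (show ¬ 5 ∣ 3 by norm_num)]
    exact ⟨Sylow.ofCard _ hc, Sylow.coe_ofCard _ _⟩
  obtain ⟨S1, hS1⟩ := hsyl P hP
  obtain ⟨S2, hS2⟩ := hsyl R hR
  rw [Subsingleton.elim S2 S1, hS1] at hS2
  exact (inf_eq_left.mpr (hle P hP)).symm.trans
    ((Subgroup.subgroupOf_inj.mp hS2).trans (inf_eq_left.mpr (hle R hR)))

theorem card_ne_1200 (hG : ¬ IsMulCommutative G) : Nat.card G ≠ 1200 := by
  intro h
  have h1 := Classif.OrderSieve.not_excluded hG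
  rw [h, show Classif.OrderSieve.excluded 1200 = true by decide +kernel] at h1
  exact Bool.noConfusion h1

theorem card_ne_2400 (hG : ¬ IsMulCommutative G) : Nat.card G ≠ 2400 := by
  intro h
  haveI : Fact (Nat.Prime 5) := ⟨by norm_num⟩
  have hfac : Nat.card G = 5 ^ 2 * 96 := by rw [h]; norm_num
  have hdiv := Sylow.card_sylow_mem (p := 5) hfac (by norm_num)
  have hne := Sylow.card_sylow_ne_one (p := 5) hfac (by norm_num) (by norm_num) (by norm_num)
  have hmod : Nat.card (Sylow 5 G) % 5 ^ 2 ≠ 1 := by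
    rw [show ((96 : ℕ).divisors.filter fun d => d % 5 = 1) = {1, 6, 16, 96} by decide +kernel] at hdiv
    simp only [Finset.mem_insert, Finset.mem_singleton] at hdiv
    omega
  obtain ⟨P, R, N, hPR, -, -, hPN, hRN, htop, m', d, hN, hm', hd, hd5, h5d⟩ :=
    Classif.exists_intersection_normalizer hfac (by norm_num) le_rfl hmod
  have hm'0 : m' ≠ 0 := fun h0 => by simp [h0] at hm'
  have hd6 : 6 ≤ m' := (show 6 ≤ d by omega).trans (Nat.le_of_dvd (Nat.pos_of_ne_zero hm'0) hd)
  have h16 : N.index ≤ 16 := by nlinarith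
  have hfact := Sylow.two_mul_card_dvd_factorial hG htop
  rw [h] at hfact
  have hidx : N.index = 16 := by
    have hdvd : N.index ∣ 96 := ⟨m', by rw [← hm', mul_comm]⟩
    generalize hi : N.index = i at h16 hfact hdvd hm'
    interval_cases i <;>
      first
      | rfl
      | (norm_num [Nat.factorial] at hfact; done)
      | (norm_num at hdvd; done)
      | (obtain rfl : m' = 8 := (by omega)
         have := Nat.le_of_dvd (by norm_num) hd
         interval_cases d <;> omega)
  rw [hidx] at hm'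
  obtain rfl : m' = 6 := by omega
  have hcard : ∀ S : Sylow 5 G, (S : Subgroup G) ≤ N → Nat.card ((S : Subgroup G).subgroupOf N) = 25 := by
    intro S hS
    rw [Nat.card_congr (Subgroup.subgroupOfEquivOfLe hS).toEquiv,
      Sylow.card_sylow_eq S hfac (by norm_num)]
    norm_num
  have := eq_of_card_150 (N := N) (by rw [hN]; norm_num) _ _ (hcard P hPN) (hcard R hRN)
  exact hPR (Sylow.ext ((inf_eq_left.mpr hPN).symm.trans
    ((Subgroup.subgroupOf_inj.mp this).trans (inf_eq_left.mpr hRN))))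

/-- The orders of the simple groups of order `3 p ^ a q ^ b` with `a ≤ 2`. -/
theorem card_of_three (hG : ¬ IsMulCommutative G) {p q a b : ℕ} (hp : p.Prime) (hq : q.Prime)
    (hpq : p ≠ q) (ha : a ≤ 2) (h : Nat.card G = 3 * p ^ a * q ^ b) :
    Nat.card G = 60 ∨ Nat.card G = 168 := by
  have h3 : Nat.Prime 3 := Nat.prime_three
  have hp3 : p ≠ 3 := by
    rintro rfl
    exact Classif.OrderSieve.card_ne_two_primes hG 3 q (a + 1) b hp hq (by rw [h]; ring)
  have hq3 : q ≠ 3 := by
    rintro rfl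
    exact Classif.OrderSieve.card_ne_two_primes hG 3 p (b + 1) a hq hp (by rw [h]; ring)
  obtain ⟨⟨χ, hχ, k, hk⟩, -⟩ := S4500.result p 3 q a 1 b hp h3 hq hp3 hpq (Ne.symm hq3) ha
    (by rw [h]; ring)
  have hχ1 := ne_oneChar hχ
  have hk1 : k ≤ 1 := by
    by_contra! hk2
    have h9 : 3 ^ 2 ∣ 3 * (p ^ a * q ^ b) :=
      (pow_dvd_pow 3 hk2).trans (by rw [← hk, ← mul_assoc, ← h]; exact charDegree_dvd χ)
    rw [pow_two] at h9
    rcases h3.dvd_mul.mp (Nat.dvd_of_mul_dvd_mul_left (by norm_num) h9) with h' | h'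
    · exact hp3 ((Nat.prime_dvd_prime_iff_eq h3 hp).mp (h3.dvd_of_dvd_pow h')).symm
    · exact hq3 ((Nat.prime_dvd_prime_iff_eq h3 hq).mp (h3.dvd_of_dvd_pow h')).symm
  have hdeg : Cfsg.charDegree (χ : G → ℂ) = 3 := by
    interval_cases k
    · exact absurd hk (by simpa using degree_ne_one hG χ hχ1)
    · simpa using hk
  have hnd : ∀ {x y e : ℕ}, x.Prime → y.Prime → x ≠ 3 → x ≠ y → ¬ x ∣ 3 * y ^ e := by
    intro x y e hx hy hx3 hxy hd
    rcases hx.dvd_mul.mp hd with h' | h'
    · exact hx3 ((Nat.prime_dvd_prime_iff_eq hx h3).mp h')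
    · exact hxy ((Nat.prime_dvd_prime_iff_eq hx hy).mp (hx.dvd_of_dvd_pow h'))
  have hP := part_mem hG χ hχ1 hdeg hp hp3 (v := a) (m := 3 * q ^ b) (by rw [h]; ring)
    (hnd hp hq hp3 hpq)
  have hQ := part_mem hG χ hχ1 hdeg hq hq3 (v := b) (m := 3 * p ^ a) (by rw [h]; ring)
    (hnd hq hp hq3 (Ne.symm hpq))
  have hcop : Nat.Coprime (p ^ a) (q ^ b) :=
    Nat.Coprime.pow a b ((Nat.coprime_primes hp hq).mpr hpq)
  rw [mul_assoc] at h
  generalize p ^ a = X at hP hcop h
  generalize q ^ b = Y at hQ hcop h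
  simp only [List.mem_cons, List.not_mem_nil, or_false] at hP hQ
  rcases hP with rfl | rfl | rfl | rfl | rfl | rfl | rfl | rfl | rfl <;>
    rcases hQ with rfl | rfl | rfl | rfl | rfl | rfl | rfl | rfl | rfl <;>
    norm_num at hcop <;> norm_num at h <;>
    first
    | exact absurd h (card_ne_1200 hG)
    | exact absurd h (card_ne_2400 hG)
    | (have h6 := S0496.result hG (by omega); omega)

end Cfsg.Agent.Lib.BC77.ThreePrime
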